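import Cfsg.Agent.Lib.Classical.OrthPOmegaCard
import Cfsg.Agent.Lib.Classical.OrthGenModels
import Cfsg.Agent.Lib.Classical.OmegaEightTwo.Data
import Cfsg.Agent.S0293

/-! The commutator subgroup of the orthogonal group of plus type in dimension eight over two elements. -/

set_option autoImplicit false
set_option maxRecDepth 100000
set_option linter.style.haveILetI false

open Matrix Cfsg Cfsg.Agent.Spor.Cos
open scoped commutatorElement

namespace Cfsg.Agent.Classical.OmegaEightTwo

open Cfsg.Agent.Classical Cfsg.Agent.Classical.OrthAut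

instance fact_two : Fact (Nat.Prime 2) := ⟨Nat.prime_two⟩

/-- The form. -/
noncomputable abbrev QQ : QuadraticForm (ZMod 2) (Fin 4 ⊕ Fin 4 → ZMod 2) := qfPlus 4 (ZMod 2)

/-- The isometries. -/
abbrev O0 : Type := isometryGroup (ZMod 2) ⇑QQ

/-- The group. -/
abbrev G0 : Type := Omega (ZMod 2) ⇑QQ

/-- Vectors. -/
abbrev V : Type := Fin 4 ⊕ Fin 4 → ZMod 2

/-- The bit of a coordinate. -/
def pos : Fin 4 ⊕ Fin 4 → ℕ := Sum.elim (fun i => i.1) (fun i => 4 + i.1)

/-- The vector of a number. -/
def vec (n : ℕ) : V := fun i => if n.testBit (pos i) then 1 else 0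

/-- The number of a vector. -/
def num (v : V) : ℕ :=
  (v (.inl 0)).val + 2 * (v (.inl 1)).val + 4 * (v (.inl 2)).val + 8 * (v (.inl 3)).val +
    16 * (v (.inr 0)).val + 32 * (v (.inr 1)).val + 64 * (v (.inr 2)).val + 128 * (v (.inr 3)).val

theorem num_lt : ∀ v : V, num v < 256 := by
  intro v
  have h : ∀ a : ZMod 2, a.val < 2 := fun a => ZMod.val_lt a
  have := h (v (.inl 0)); have := h (v (.inl 1)); have := h (v (.inl 2)); have := h (v (.inl 3))
  have := h (v (.inr 0)); have := h (v (.inr 1)); have := h (v (.inr 2)); have := h (v (.inr 3))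
  unfold num; omega

theorem num_vec : ∀ n < 256, num (vec n) = n := by decide +kernel

theorem vec_num (v : V) : vec (num v) = v := by
  revert v
  decide +kernel

/-- The reflection of a number in a number, by the form. -/
def rfv (a : ℕ) (x : V) : V :=
  x - (quadFormPlus 4 (ZMod 2) (vec a + x) - quadFormPlus 4 (ZMod 2) (vec a) - quadFormPlus 4 (ZMod 2) x) • vec a

/-- The number has value one. -/
def isNS (a : ℕ) : Bool := decide (quadFormPlus 4 (ZMod 2) (vec a) = 1)

theorem two_cases : ∀ c : ZMod 2, c = 0 ∨ c = 1 := by decide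

theorem isNS_iff {a : ℕ} : isNS a = true ↔ QQ (vec a) ≠ 0 := by
  rw [isNS, decide_eq_true_iff, coe_qfPlus]
  rcases two_cases (quadFormPlus 4 (ZMod 2) (vec a)) with e | e <;> simp [e]

/-- The reflection of a number. -/
noncomputable def rN (a : ℕ) : O0 :=
  if h : isNS a = true then refl (isNS_iff.1 h) else 1

theorem rN_apply {a : ℕ} (h : isNS a = true) (x : V) : ogVal (rN a) *ᵥ x = rfv a x := by
  have h1 : quadFormPlus 4 (ZMod 2) (vec a) = 1 := by simpa [isNS] using h
  rw [rN, dif_pos h, refl_apply, QuadraticMap.polar, coe_qfPlus, rfv, h1, inv_one, one_mul]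

/-- The action on the numbers. -/
noncomputable def piO : O0 →* Equiv.Perm (Fin actA.N) where
  toFun g :=
    { toFun := fun p => ⟨num (ogVal g *ᵥ vec p.1), num_lt _⟩
      invFun := fun p => ⟨num (ogVal g⁻¹ *ᵥ vec p.1), num_lt _⟩
      left_inv := fun p => Fin.ext (by
        show num (_ *ᵥ vec (num _)) = p.1
        rw [vec_num, ogVal_inv_cancel]
        exact num_vec p.1 p.2)
      right_inv := fun p => Fin.ext (by
        show num (_ *ᵥ vec (num _)) = p.1
        rw [vec_num, ogVal_cancel_inv]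
        exact num_vec p.1 p.2) }
  map_one' := Equiv.ext fun p => Fin.ext (by
    show num (_ *ᵥ vec p.1) = p.1
    rw [ogVal_one, Matrix.one_mulVec]
    exact num_vec p.1 p.2)
  map_mul' g h := Equiv.ext fun p => Fin.ext (by
    show num (_ *ᵥ vec p.1) = num (_ *ᵥ vec (num _))
    rw [vec_num, Matrix.mulVec_mulVec, ← ogVal_mul])

theorem piO_val (g : O0) (p : Fin actA.N) : (piO g p : ℕ) = num (ogVal g *ᵥ vec p.1) := rfl

/-- The base of the determination. -/
def baseL : List ℕ := [1, 2, 4, 8, 16, 32, 64, 128]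

theorem detO (y : O0) (h : ∀ q : Fin actA.N, (q : ℕ) ∈ [1, 2, 4, 8, 16, 32, 64, 128] → piO y q = q) : y = 1 := by
  refine ogVal_ext (Matrix.ext_of_mulVec_single fun i => ?_)
  have hi : ∀ j : Fin 4 ⊕ Fin 4, (2 : ℕ) ^ pos j < 256 ∧ 2 ^ pos j ∈ [1, 2, 4, 8, 16, 32, 64, 128] ∧
      vec (2 ^ pos j) = Pi.single j 1 := by decide +kernel
  obtain ⟨h1, h2, h3⟩ := hi i
  have e := congrArg (fun q : Fin actA.N => vec q.1) (h ⟨2 ^ pos i, h1⟩ h2)
  simp only [piO_val, vec_num, h3] at e
  rw [e, ogVal_one, Matrix.one_mulVec]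

/-- The connecting element of a pair. -/
noncomputable def conn (a b c : ℕ) : O0 := rN (num (vec b + vec c)) * rN (num (vec a + vec c))

/-- The conditions on the three centres. -/
def chkMid (a b c : ℕ) : Bool :=
  isNS a && isNS b && isNS (num (vec a + vec c)) && isNS (num (vec b + vec c)) &&
    decide (rfv (num (vec b + vec c)) (rfv (num (vec a + vec c)) (vec a)) = vec b)

theorem pair_mem {a b c : ℕ} (h : chkMid a b c = true) : rN a * rN b ∈ Omega (ZMod 2) ⇑QQ := by
  simp only [chkMid, Bool.and_eq_true, decide_eq_true_iff] at h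
  obtain ⟨⟨⟨⟨ha, hb⟩, hac⟩, hbc⟩, hx⟩ := h
  have e : ogVal (conn a b c) *ᵥ vec a = vec b := by
    rw [conn, ogVal_mul, ← Matrix.mulVec_mulVec, rN_apply hac, rN_apply hbc, hx]
  have hgv : QQ (ogVal (conn a b c) *ᵥ vec a) ≠ 0 := by rw [e]; exact isNS_iff.1 hb
  have hb' : rN b = conn a b c * rN a * (conn a b c)⁻¹ := by
    rw [rN, dif_pos hb, rN, dif_pos ha, refl_conj _ _ hgv]
    exact refl_congr _ _ (c := 1) (by rw [one_smul, e])
  have hi : (rN a)⁻¹ = rN a := by
    rw [rN, dif_pos ha]
    exact inv_eq_of_mul_eq_one_right (refl_mul_self _)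
  have : rN a * rN b = ⁅rN a, conn a b c⁆ := by
    rw [commutatorElement_def, hi, hb']
    group
  rw [this]
  exact Subgroup.commutator_mem_commutator (Subgroup.mem_top _) (Subgroup.mem_top _)

theorem chkMids : ∀ s < 4, chkMid (genP.getD s (0, 0)).1 (genP.getD s (0, 0)).2 (midV.getD s 0) = true := by
  decide +kernel

/-- The generators as isometries. -/
noncomputable def gO (s : ℕ) : O0 := if s < 4 then rN (genP.getD s (0, 0)).1 * rN (genP.getD s (0, 0)).2 else 1

theorem gO_mem (s : ℕ) : gO s ∈ Omega (ZMod 2) ⇑QQ := by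
  rw [gO]
  split_ifs with h
  · exact pair_mem (chkMids s h)
  · exact one_mem _

/-- The generators. -/
noncomputable def gT (s : ℕ) : G0 := ⟨gO s, gO_mem s⟩

theorem gT_out (s : ℕ) (hs : 4 ≤ s) : gT s = 1 := Subtype.ext (by
  show gO s = 1
  rw [gO, if_neg (not_lt.2 hs)])

theorem act_inv : ∀ p < actA.N, actA.chkInv p = true := by decide +kernel

theorem act_table : ∀ s < 4, ∀ p < 256, actA.im p s =
    num (rfv (genP.getD s (0, 0)).1 (rfv (genP.getD s (0, 0)).2 (vec p))) := by
  decide +kernel

theorem homO : actA.Hom gO piO := by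
  refine ⟨act_inv, fun s => Equiv.ext fun p => Fin.ext ?_⟩
  by_cases hs : s < 4
  · have h := chkMids s hs
    simp only [chkMid, Bool.and_eq_true] at h
    obtain ⟨⟨⟨⟨ha, hb⟩, -⟩, -⟩, -⟩ := h
    rw [actA.perm_apply act_inv hs, piO_val, gO, if_pos hs, ogVal_mul, ← Matrix.mulVec_mulVec, rN_apply hb,
      rN_apply ha, act_table s hs p.1 p.2]
  · rw [gO, if_neg hs, map_one, actA.perm_out s (not_lt.1 hs)]

/-- The action of the group. -/
noncomputable def piA : G0 →* Equiv.Perm (Fin actA.N) := piO.comp (Omega (ZMod 2) ⇑QQ).subtype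

theorem homA : actA.Hom gT piA := ⟨homO.1, fun s => homO.2 s⟩

theorem det (y : G0) (h : ∀ q : Fin actA.N, (q : ℕ) ∈ [1, 2, 4, 8, 16, 32, 64, 128] → piA y q = q) : y = 1 :=
  Subtype.ext (detO y.1 h)

/-- A word agrees with a map on the base. -/
noncomputable def chkAgree (w : List ℕ) (f : V → V) : Bool :=
  w.all (fun s => Nat.blt s 4) && [1, 2, 4, 8, 16, 32, 64, 128].all fun b => Nat.beq (actA.go w b) (num (f (vec b)))

theorem eq_ev_of_agree {w : List ℕ} {f : V → V} (h : chkAgree w f = true) {y : O0}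
    (hy : ∀ x, ogVal y *ᵥ x = f x) : y = Cfsg.Agent.Spor.Cos.ev gO w := by
  simp only [chkAgree, Bool.and_eq_true, List.all_eq_true] at h
  refine (inv_mul_eq_one.1 (detO ((Cfsg.Agent.Spor.Cos.ev gO w)⁻¹ * y) fun q hq => ?_)).symm
  have e : piO y q = piO (Cfsg.Agent.Spor.Cos.ev gO w) q := Fin.ext (by
    rw [homO.apply_ev _ (fun s hs => Nat.le_of_ble_eq_true (h.1 s hs)), piO_val, hy]
    exact (Nat.eq_of_beq_eq_true (h.2 q.1 hq)).symm)
  rw [map_mul, map_inv, Equiv.Perm.mul_apply, e, Equiv.Perm.inv_def, Equiv.symm_apply_apply]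

/-- The conjugates by the reflection are words. -/
noncomputable def chkConj (s : ℕ) : Bool :=
  chkAgree (conjWords.getD s []) fun x =>
    rfv baseV (rfv (genP.getD s (0, 0)).1 (rfv (genP.getD s (0, 0)).2 (rfv baseV x)))

/-- The products with the reflection are words. -/
noncomputable def chkRefl (i : ℕ) : Bool :=
  isNS (nsV.getD i 0) && chkAgree (reflWords.getD i []) fun x => rfv baseV (rfv (nsV.getD i 0) x)

theorem chkConjs : ∀ s < 4, chkConj s = true := by decide +kernel

theorem chkRefls : (List.range 120).all chkRefl = true := by decide +kernel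

theorem base_ns : isNS baseV = true := by decide +kernel

theorem ns_listed : ∀ n < 256, isNS n = true → ∃ i < 120, nsV.getD i 0 = n := by decide +kernel

theorem closure_gO : Subgroup.closure {x | ∃ s < 4, gO s = x} = Omega (ZMod 2) ⇑QQ := by
  set H := Subgroup.closure {x | ∃ s < 4, gO s = x} with hH
  refine le_antisymm ((Subgroup.closure_le _).2 ?_) ?_
  · rintro _ ⟨s, -, rfl⟩; exact gO_mem s
  have hev : ∀ {w : List ℕ} {f : V → V}, chkAgree w f = true → ∀ {y : O0}, (∀ x, ogVal y *ᵥ x = f x) → y ∈ H := by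
    intro w f h y hy
    rw [eq_ev_of_agree h hy]
    simp only [chkAgree, Bool.and_eq_true, List.all_eq_true] at h
    exact ev_mem _ fun s hs => Subgroup.subset_closure ⟨s, Nat.le_of_ble_eq_true (h.1 s hs), rfl⟩
  set t := rN baseV with ht
  have htt : t * t = 1 := by rw [ht, rN, dif_pos base_ns]; exact refl_mul_self _
  have hti : t⁻¹ = t := inv_eq_of_mul_eq_one_right htt
  have hconj : ∀ h ∈ H, t * h * t⁻¹ ∈ H := by
    intro h hh
    induction hh using Subgroup.closure_induction with
    | mem x hx =>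
      obtain ⟨s, hs, rfl⟩ := hx
      refine hev (chkConjs s hs) fun x => ?_
      have hm := chkMids s hs
      simp only [chkMid, Bool.and_eq_true] at hm
      obtain ⟨⟨⟨⟨ha, hb⟩, -⟩, -⟩, -⟩ := hm
      rw [hti, gO, if_pos hs, ht]
      simp only [ogVal_mul, ← Matrix.mulVec_mulVec, rN_apply base_ns, rN_apply ha, rN_apply hb]
    | one => rw [mul_one, mul_inv_cancel]; exact one_mem _
    | mul x y _ _ ix iy =>
      rw [show t * (x * y) * t⁻¹ = (t * x * t⁻¹) * (t * y * t⁻¹) by group]
      exact mul_mem ix iy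
    | inv x _ ix =>
      rw [show t * x⁻¹ * t⁻¹ = (t * x * t⁻¹)⁻¹ by group]
      exact inv_mem ix
  have hsplit : ∀ g : O0, g ∈ H ∨ t * g ∈ H := by
    intro g
    have hg : g ∈ reflGroup QQ := by
      rw [reflGroup_eq_top_gen (nondegenerate_qfPlus 4) (genQ_of_card (Or.inr (by simp)))]; trivial
    induction hg using Subgroup.closure_induction with
    | mem x hx =>
      obtain ⟨v, hv, rfl⟩ := hx
      have hns : isNS (num v) = true := isNS_iff.2 (by rw [vec_num]; exact hv)
      obtain ⟨i, hi, he⟩ := ns_listed (num v) (num_lt v) hns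
      have hr : refl hv = rN (num v) := by
        rw [rN, dif_pos hns]; exact refl_congr _ _ (c := 1) (by rw [one_smul, vec_num])
      have hc := List.all_eq_true.1 chkRefls i (List.mem_range.2 hi)
      rw [chkRefl, Bool.and_eq_true, he] at hc
      exact Or.inr (hev hc.2 fun x => by rw [hr, ogVal_mul, ← Matrix.mulVec_mulVec, rN_apply hns, ht, rN_apply base_ns])
    | one => exact Or.inl (one_mem _)
    | mul x y _ _ ix iy =>
      rcases ix with hx | hx <;> rcases iy with hy | hy
      · exact Or.inl (mul_mem hx hy)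
      · refine Or.inr ?_
        rw [show t * (x * y) = (t * x * t⁻¹) * (t * y) by group]
        exact mul_mem (hconj x hx) hy
      · exact Or.inr (by rw [← mul_assoc]; exact mul_mem hx hy)
      · refine Or.inl ?_
        have := mul_mem (hconj _ hx) hy
        rwa [show t * (t * x) * t⁻¹ * (t * y) = (t * t) * (x * y) by group, htt, one_mul] at this
    | inv x _ ix =>
      rcases ix with hx | hx
      · exact Or.inl (inv_mem hx)
      · refine Or.inr ?_
        have := hconj _ (inv_mem hx)
        rwa [show t * (t * x)⁻¹ * t⁻¹ = t * x⁻¹ * (t * t)⁻¹ by group, htt, inv_one, mul_one] at this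
  haveI hN : H.Normal := ⟨fun h hh g => by
    rcases hsplit g with hg | hg
    · exact mul_mem (mul_mem hg hh) (inv_mem hg)
    · have := hconj _ (mul_mem (mul_mem hg hh) (inv_mem hg))
      rwa [show t * (t * g * h * (t * g)⁻¹) * t⁻¹ = (t * t) * (g * h * g⁻¹) * (t * t)⁻¹ by group, htt, one_mul,
        inv_one, mul_one] at this⟩
  show commutator O0 ≤ H
  rw [commutator_def, Subgroup.commutator_le]
  intro a _ b _
  rw [← QuotientGroup.eq_one_iff, ← QuotientGroup.mk'_apply, map_commutatorElement,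
    commutatorElement_eq_one_iff_commute]
  have key : ∀ g : O0, QuotientGroup.mk' H g = 1 ∨ QuotientGroup.mk' H g = QuotientGroup.mk' H t := fun g => by
    rcases hsplit g with hg | hg
    · exact Or.inl ((QuotientGroup.eq_one_iff g).2 hg)
    · refine Or.inr (QuotientGroup.eq.2 ?_)
      have := inv_mem hg
      rwa [_root_.mul_inv_rev, hti] at this
  rcases key a with e | e <;> rcases key b with e' | e' <;> rw [e, e'] <;>
    first | exact Commute.one_left _ | exact Commute.one_right _ | exact Commute.refl _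

theorem gen : Subgroup.closure {x | ∃ s < 4, gT s = x} = ⊤ := by
  refine Subgroup.map_injective (Omega (ZMod 2) ⇑QQ).subtype_injective ?_
  rw [MonoidHom.map_closure, ← MonoidHom.range_eq_map, Subgroup.range_subtype]
  refine Eq.trans ?_ closure_gO
  congr 1
  ext x
  constructor
  · rintro ⟨y, ⟨s, hs, rfl⟩, rfl⟩; exact ⟨s, hs, rfl⟩
  · rintro ⟨s, hs, rfl⟩; exact ⟨gT s, ⟨s, hs, rfl⟩, rfl⟩

theorem card_center : Nat.card (Subgroup.center G0) = 1 := by
  refine card_center_one (nondegenerate_qfPlus 4) (tri_qfPlus (by norm_num)) (by simp) fun g _ hgv => hgv.trans ?_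
  ext i j
  simp [CharTwo.neg_eq]

theorem center_eq_bot : Subgroup.center G0 = ⊥ := Subgroup.eq_bot_of_card_eq _ card_center

theorem card_G0 : Nat.card G0 = 174182400 := by
  have h := Cfsg.Agent.S0293.result (F := ZMod 2) (q := 2) (ZMod.card 2) 4 le_rfl
  rw [← coe_qfPlus] at h
  have hmul := Subgroup.card_eq_card_quotient_mul_card_subgroup (Subgroup.center G0)
  rw [card_center, mul_one] at hmul
  rw [hmul]
  norm_num [Finset.prod_range_succ] at h
  exact h

end Cfsg.Agent.Classical.OmegaEightTwo
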