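import Cfsg.Agent.Lib.Grp.SchurM.SubsetAct
import Cfsg.Agent.Lib.Classical.OmegaEightTwo.Two

/-! The two actions on 120 points and the action on one point. -/

set_option autoImplicit false
set_option maxRecDepth 100000
set_option maxHeartbeats 4000000

open Cfsg.Agent.Spor.Cos Cfsg.Agent.Grp.SchurM

namespace Cfsg.Agent.Classical.OmegaEightTwo

theorem nInv : ∀ i < 120, actN.chkInv i = true := by decide +kernel

theorem nChk : ∀ i < 120, chkSubset actA actN nSet (fun i => [nsV.getD i 0]) i = true := by decide +kernel

theorem exists_homN : ∃ θ : G0 →* Equiv.Perm (Fin actN.N), actN.Hom gT θ :=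
  exists_subset_hom homA rfl gen gT_out nInv nChk

theorem sInv : ∀ i < 135, actS.chkInv i = true := by decide +kernel

theorem sChk : ∀ i < 135, chkSubset actA actS sSet (fun i => sPts.getD i []) i = true := by decide +kernel

theorem exists_homS : ∃ θ : G0 →* Equiv.Perm (Fin actS.N), actS.Hom gT θ :=
  exists_subset_hom homA rfl gen gT_out sInv sChk

theorem hInv : ∀ i < 120, actH.chkInv i = true := by decide +kernel

theorem hChk : ∀ i < 120, chkSubset actS actH hSet (fun i => hPts.getD i []) i = true := by decide +kernel

theorem exists_homH : ∃ θ : G0 →* Equiv.Perm (Fin actH.N), actH.Hom gT θ := by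
  obtain ⟨ρ, hρ⟩ := exists_homS
  exact exists_subset_hom hρ rfl gen gT_out hInv hChk

theorem homOne : actOne.Hom gT (1 : G0 →* Equiv.Perm (Fin actOne.N)) := by
  refine ⟨by decide +kernel, fun s => Equiv.ext fun p => ?_⟩
  have : Subsingleton (Fin actOne.N) := inferInstanceAs (Subsingleton (Fin 1))
  exact Subsingleton.elim _ _

end Cfsg.Agent.Classical.OmegaEightTwo
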