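import Cfsg.Agent.Lib.Grp.SchurM.SignCover
import Cfsg.Agent.Lib.Classical.OmegaEightTwo.Data
import Cfsg.Agent.Lib.Classical.OmegaEightTwo.SignData

/-! Checks of the shifts and weights. -/

set_option autoImplicit false
set_option maxRecDepth 100000
set_option maxHeartbeats 4000000

open Cfsg.Agent.Spor.Cos Cfsg.Agent.Grp.SchurM

namespace Cfsg.Agent.Classical.OmegaEightTwo

/-- The tables over points. -/
def tabN : SignTab where
  B := actN
  C := actOne
  p := 2
  sgT := sgN
  edT := edN
  bits := 1
  paT := paN
  root := 0

/-- The tables over sets of solids. -/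
def tabH : SignTab where
  B := actH
  C := actOne
  p := 2
  sgT := sgH
  edT := edH
  bits := 1
  paT := paH
  root := 0

theorem stepsN : ∀ x < 120, tabN.chkStep x = true := by decide +kernel

theorem apartsN : ∀ x < 120, tabN.chkApart x = true := by decide +kernel

theorem stepsH : ∀ x < 120, tabH.chkStep x = true := by decide +kernel

theorem apartsH : ∀ x < 120, tabH.chkApart x = true := by decide +kernel

theorem okN : tabN.Ok where
  prime := Nat.prime_two
  root_lt := by decide
  step := stepsN
  apart := apartsN
  pred := by decide +kernel

theorem okH : tabH.Ok where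
  prime := Nat.prime_two
  root_lt := by decide
  step := stepsH
  apart := apartsH
  pred := by decide +kernel

theorem shiftH : tabH.chkShift comH.1 comH.2 = true := by decide +kernel

theorem shiftN : tabN.chkShift comN.1 comN.2 = true := by decide +kernel

theorem flatH : Nat.beq (tabN.trk tabN.root (comH.1 ++ comH.2)).2 (tabN.trk tabN.root (comH.2 ++ comH.1)).2 = true := by
  decide +kernel

theorem flatN : Nat.beq (tabH.trk tabH.root (comN.1 ++ comN.2)).2 (tabH.trk tabH.root (comN.2 ++ comN.1)).2 = true := by
  decide +kernel

end Cfsg.Agent.Classical.OmegaEightTwo
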