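import Cfsg.Agent.Lib.Grp.SchurM.TailPair
import Cfsg.Agent.Lib.Classical.OmegaEightTwo.Two

/-! A Sylow 2-subgroup of the orthogonal group with equations for the tails. -/

set_option autoImplicit false
set_option maxRecDepth 100000
set_option maxHeartbeats 8000000

open Cfsg.Agent.Grp.SchurM.Tails

namespace Cfsg.Agent.Classical.OmegaEightTwo

/-- Presentation of the Sylow 2-subgroup. -/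
def pc2 : PC where
  p := 2
  n := 12
  rhs := [[4],
    [0, 1, 5],
    [],
    [0, 2, 6],
    [1, 2, 9, 10],
    [],
    [0, 3, 4, 5, 10, 11],
    [1, 3, 5],
    [2, 3, 6, 8, 9, 10, 11],
    [5],
    [0, 4],
    [1, 4, 7],
    [2, 4, 8],
    [3, 4, 7, 11],
    [],
    [0, 5, 7],
    [1, 5],
    [2, 5, 9],
    [3, 5],
    [4, 5],
    [],
    [0, 6, 8],
    [1, 6, 9, 10],
    [2, 6],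
    [3, 6, 9, 10, 11],
    [4, 6],
    [5, 6, 11],
    [],
    [0, 7],
    [1, 7],
    [2, 7, 10],
    [3, 7],
    [4, 7],
    [5, 7],
    [6, 7, 11],
    [],
    [0, 8],
    [1, 8, 10, 11],
    [2, 8],
    [3, 8, 10],
    [4, 8],
    [5, 8, 11],
    [6, 8],
    [7, 8],
    [],
    [0, 9, 10],
    [1, 9],
    [2, 9],
    [3, 9],
    [4, 9, 11],
    [5, 9],
    [6, 9],
    [7, 9],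
    [8, 9],
    [],
    [0, 10, 11],
    [1, 10],
    [2, 10],
    [3, 10, 11],
    [4, 10],
    [5, 10],
    [6, 10],
    [7, 10],
    [8, 10],
    [9, 10],
    [],
    [0, 11],
    [1, 11],
    [2, 11],
    [3, 11],
    [4, 11],
    [5, 11],
    [6, 11],
    [7, 11],
    [8, 11],
    [9, 11],
    [10, 11],
    []]
  defs := [(4, 0, 0), (5, 3, 3), (6, 2, 0), (7, 4, 1), (8, 4, 2), (9, 5, 2), (10, 7, 2), (11, 10, 0)]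

/-- Elements of the Sylow 2-subgroup. -/
def els2 : List (List ℕ) :=
   [[0, 1, 3, 8, 9],
    [0, 5, 6, 8, 10, 11],
    [0, 1, 3, 6, 11],
    [0, 5, 9, 10],
    [0, 1, 3, 8, 9, 11],
    [0, 5, 6, 8, 10],
    [0, 1, 3, 6],
    [0, 5, 9, 10, 11],
    [0, 1, 3, 5, 8, 10],
    [0, 6, 8, 9],
    [0, 1, 3, 5, 6, 9, 10, 11],
    [0, 11],
    [0, 1, 3, 5, 8, 10, 11],
    [0, 6, 8, 9, 11],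
    [0, 1, 3, 5, 6, 9, 10],
    [0],
    [0, 1, 3, 8, 11],
    [0, 5, 6, 8, 9, 10],
    [0, 1, 3, 6, 9],
    [0, 5, 10, 11],
    [0, 1, 3, 8],
    [0, 5, 6, 8, 9, 10, 11],
    [0, 1, 3, 6, 9, 11],
    [0, 5, 10],
    [0, 1, 3, 5, 8, 9, 10, 11],
    [0, 6, 8, 11],
    [0, 1, 3, 5, 6, 10],
    [0, 9],
    [0, 1, 3, 5, 8, 9, 10],
    [0, 6, 8],
    [0, 1, 3, 5, 6, 10, 11],
    [0, 9, 11],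
    [0, 3, 5, 8, 10],
    [0, 1, 6, 8, 9],
    [0, 3, 5, 6, 9, 10, 11],
    [0, 1, 11],
    [0, 3, 5, 8, 10, 11],
    [0, 1, 6, 8, 9, 11],
    [0, 3, 5, 6, 9, 10],
    [0, 1],
    [0, 3, 8, 9],
    [0, 1, 5, 6, 8, 10, 11],
    [0, 3, 6, 11],
    [0, 1, 5, 9, 10],
    [0, 3, 8, 9, 11],
    [0, 1, 5, 6, 8, 10],
    [0, 3, 6],
    [0, 1, 5, 9, 10, 11],
    [0, 3, 5, 8, 9, 10, 11],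
    [0, 1, 6, 8, 11],
    [0, 3, 5, 6, 10],
    [0, 1, 9],
    [0, 3, 5, 8, 9, 10],
    [0, 1, 6, 8],
    [0, 3, 5, 6, 10, 11],
    [0, 1, 9, 11],
    [0, 3, 8, 11],
    [0, 1, 5, 6, 8, 9, 10],
    [0, 3, 6, 9],
    [0, 1, 5, 10, 11],
    [0, 3, 8],
    [0, 1, 5, 6, 8, 9, 10, 11],
    [0, 3, 6, 9, 11],
    [0, 1, 5, 10],
    [0, 4, 5, 6, 7, 10, 11],
    [0, 1, 3, 4, 7, 9, 11],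
    [0, 4, 5, 7, 8, 9, 10, 11],
    [0, 1, 3, 4, 6, 7, 8, 11],
    [0, 4, 5, 6, 7, 10],
    [0, 1, 3, 4, 7, 9],
    [0, 4, 5, 7, 8, 9, 10],
    [0, 1, 3, 4, 6, 7, 8],
    [0, 4, 6, 7, 9, 11],
    [0, 1, 3, 4, 5, 7, 10],
    [0, 4, 7, 8, 11],
    [0, 1, 3, 4, 5, 6, 7, 8, 9, 10],
    [0, 4, 6, 7, 9],
    [0, 1, 3, 4, 5, 7, 10, 11],
    [0, 4, 7, 8],
    [0, 1, 3, 4, 5, 6, 7, 8, 9, 10, 11],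
    [0, 4, 5, 6, 7, 9, 10, 11],
    [0, 1, 3, 4, 7, 11],
    [0, 4, 5, 7, 8, 10, 11],
    [0, 1, 3, 4, 6, 7, 8, 9, 11],
    [0, 4, 5, 6, 7, 9, 10],
    [0, 1, 3, 4, 7],
    [0, 4, 5, 7, 8, 10],
    [0, 1, 3, 4, 6, 7, 8, 9],
    [0, 4, 6, 7, 11],
    [0, 1, 3, 4, 5, 7, 9, 10],
    [0, 4, 7, 8, 9, 11],
    [0, 1, 3, 4, 5, 6, 7, 8, 10],
    [0, 4, 6, 7],
    [0, 1, 3, 4, 5, 7, 9, 10, 11],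
    [0, 4, 7, 8, 9],
    [0, 1, 3, 4, 5, 6, 7, 8, 10, 11],
    [0, 1, 4, 5, 6, 11],
    [0, 3, 4, 9, 10, 11],
    [0, 1, 4, 5, 8, 9],
    [0, 3, 4, 6, 8, 10],
    [0, 1, 4, 5, 6],
    [0, 3, 4, 9, 10],
    [0, 1, 4, 5, 8, 9, 11],
    [0, 3, 4, 6, 8, 10, 11],
    [0, 1, 4, 6, 9, 10, 11],
    [0, 3, 4, 5],
    [0, 1, 4, 8, 10],
    [0, 3, 4, 5, 6, 8, 9, 11],
    [0, 1, 4, 6, 9, 10],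
    [0, 3, 4, 5, 11],
    [0, 1, 4, 8, 10, 11],
    [0, 3, 4, 5, 6, 8, 9],
    [0, 1, 4, 5, 6, 9],
    [0, 3, 4, 10],
    [0, 1, 4, 5, 8, 11],
    [0, 3, 4, 6, 8, 9, 10, 11],
    [0, 1, 4, 5, 6, 9, 11],
    [0, 3, 4, 10, 11],
    [0, 1, 4, 5, 8],
    [0, 3, 4, 6, 8, 9, 10],
    [0, 1, 4, 6, 10],
    [0, 3, 4, 5, 9, 11],
    [0, 1, 4, 8, 9, 10, 11],
    [0, 3, 4, 5, 6, 8],
    [0, 1, 4, 6, 10, 11],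
    [0, 3, 4, 5, 9],
    [0, 1, 4, 8, 9, 10],
    [0, 3, 4, 5, 6, 8, 11],
    [0, 1, 3, 5, 7, 8],
    [0, 6, 7, 8, 9, 10],
    [0, 1, 3, 5, 6, 7, 9],
    [0, 7, 10],
    [0, 1, 3, 5, 7, 8, 11],
    [0, 6, 7, 8, 9, 10, 11],
    [0, 1, 3, 5, 6, 7, 9, 11],
    [0, 7, 10, 11],
    [0, 1, 3, 7, 8, 9, 10],
    [0, 5, 6, 7, 8, 11],
    [0, 1, 3, 6, 7, 10],
    [0, 5, 7, 9, 11],
    [0, 1, 3, 7, 8, 9, 10, 11],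
    [0, 5, 6, 7, 8],
    [0, 1, 3, 6, 7, 10, 11],
    [0, 5, 7, 9],
    [0, 1, 3, 5, 7, 8, 9, 11],
    [0, 6, 7, 8, 10, 11],
    [0, 1, 3, 5, 6, 7, 11],
    [0, 7, 9, 10, 11],
    [0, 1, 3, 5, 7, 8, 9],
    [0, 6, 7, 8, 10],
    [0, 1, 3, 5, 6, 7],
    [0, 7, 9, 10],
    [0, 1, 3, 7, 8, 10, 11],
    [0, 5, 6, 7, 8, 9],
    [0, 1, 3, 6, 7, 9, 10, 11],
    [0, 5, 7],
    [0, 1, 3, 7, 8, 10],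
    [0, 5, 6, 7, 8, 9, 11],
    [0, 1, 3, 6, 7, 9, 10],
    [0, 5, 7, 11],
    [0, 3, 7, 8, 9, 10],
    [0, 1, 5, 6, 7, 8, 11],
    [0, 3, 6, 7, 10],
    [0, 1, 5, 7, 9, 11],
    [0, 3, 7, 8, 9, 10, 11],
    [0, 1, 5, 6, 7, 8],
    [0, 3, 6, 7, 10, 11],
    [0, 1, 5, 7, 9],
    [0, 3, 5, 7, 8],
    [0, 1, 6, 7, 8, 9, 10],
    [0, 3, 5, 6, 7, 9],
    [0, 1, 7, 10],
    [0, 3, 5, 7, 8, 11],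
    [0, 1, 6, 7, 8, 9, 10, 11],
    [0, 3, 5, 6, 7, 9, 11],
    [0, 1, 7, 10, 11],
    [0, 3, 7, 8, 10],
    [0, 1, 5, 6, 7, 8, 9, 11],
    [0, 3, 6, 7, 9, 10],
    [0, 1, 5, 7, 11],
    [0, 3, 7, 8, 10, 11],
    [0, 1, 5, 6, 7, 8, 9],
    [0, 3, 6, 7, 9, 10, 11],
    [0, 1, 5, 7],
    [0, 3, 5, 7, 8, 9],
    [0, 1, 6, 7, 8, 10],
    [0, 3, 5, 6, 7],
    [0, 1, 7, 9, 10],
    [0, 3, 5, 7, 8, 9, 11],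
    [0, 1, 6, 7, 8, 10, 11],
    [0, 3, 5, 6, 7, 11],
    [0, 1, 7, 9, 10, 11],
    [0, 1, 4, 6, 7, 9, 11],
    [0, 3, 4, 5, 7, 10],
    [0, 1, 4, 7, 8, 11],
    [0, 3, 4, 5, 6, 7, 8, 9, 10],
    [0, 1, 4, 6, 7, 9],
    [0, 3, 4, 5, 7, 10, 11],
    [0, 1, 4, 7, 8],
    [0, 3, 4, 5, 6, 7, 8, 9, 10, 11],
    [0, 1, 4, 5, 6, 7, 10, 11],
    [0, 3, 4, 7, 9, 11],
    [0, 1, 4, 5, 7, 8, 9, 10, 11],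
    [0, 3, 4, 6, 7, 8, 11],
    [0, 1, 4, 5, 6, 7, 10],
    [0, 3, 4, 7, 9],
    [0, 1, 4, 5, 7, 8, 9, 10],
    [0, 3, 4, 6, 7, 8],
    [0, 1, 4, 6, 7, 11],
    [0, 3, 4, 5, 7, 9, 10],
    [0, 1, 4, 7, 8, 9, 11],
    [0, 3, 4, 5, 6, 7, 8, 10],
    [0, 1, 4, 6, 7],
    [0, 3, 4, 5, 7, 9, 10, 11],
    [0, 1, 4, 7, 8, 9],
    [0, 3, 4, 5, 6, 7, 8, 10, 11],
    [0, 1, 4, 5, 6, 7, 9, 10, 11],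
    [0, 3, 4, 7, 11],
    [0, 1, 4, 5, 7, 8, 10, 11],
    [0, 3, 4, 6, 7, 8, 9, 11],
    [0, 1, 4, 5, 6, 7, 9, 10],
    [0, 3, 4, 7],
    [0, 1, 4, 5, 7, 8, 10],
    [0, 3, 4, 6, 7, 8, 9],
    [0, 4, 6, 9, 10, 11],
    [0, 1, 3, 4, 5],
    [0, 4, 8, 10],
    [0, 1, 3, 4, 5, 6, 8, 9, 11],
    [0, 4, 6, 9, 10],
    [0, 1, 3, 4, 5, 11],
    [0, 4, 8, 10, 11],
    [0, 1, 3, 4, 5, 6, 8, 9],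
    [0, 4, 5, 6, 11],
    [0, 1, 3, 4, 9, 10, 11],
    [0, 4, 5, 8, 9],
    [0, 1, 3, 4, 6, 8, 10],
    [0, 4, 5, 6],
    [0, 1, 3, 4, 9, 10],
    [0, 4, 5, 8, 9, 11],
    [0, 1, 3, 4, 6, 8, 10, 11],
    [0, 4, 6, 10, 11],
    [0, 1, 3, 4, 5, 9],
    [0, 4, 8, 9, 10],
    [0, 1, 3, 4, 5, 6, 8, 11],
    [0, 4, 6, 10],
    [0, 1, 3, 4, 5, 9, 11],
    [0, 4, 8, 9, 10, 11],
    [0, 1, 3, 4, 5, 6, 8],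
    [0, 4, 5, 6, 9, 11],
    [0, 1, 3, 4, 10, 11],
    [0, 4, 5, 8],
    [0, 1, 3, 4, 6, 8, 9, 10],
    [0, 4, 5, 6, 9],
    [0, 1, 3, 4, 10],
    [0, 4, 5, 8, 11],
    [0, 1, 3, 4, 6, 8, 9, 10, 11],
    [0, 1, 3, 6, 8, 10],
    [0, 5, 8, 9, 11],
    [0, 1, 3, 9, 10, 11],
    [0, 5, 6],
    [0, 1, 3, 6, 8, 10, 11],
    [0, 5, 8, 9],
    [0, 1, 3, 9, 10],
    [0, 5, 6, 11],
    [0, 1, 3, 5, 6, 8, 9],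
    [0, 8, 10],
    [0, 1, 3, 5, 11],
    [0, 6, 9, 10, 11],
    [0, 1, 3, 5, 6, 8, 9, 11],
    [0, 8, 10, 11],
    [0, 1, 3, 5],
    [0, 6, 9, 10],
    [0, 1, 3, 6, 8, 9, 10, 11],
    [0, 5, 8],
    [0, 1, 3, 10],
    [0, 5, 6, 9, 11],
    [0, 1, 3, 6, 8, 9, 10],
    [0, 5, 8, 11],
    [0, 1, 3, 10, 11],
    [0, 5, 6, 9],
    [0, 1, 3, 5, 6, 8, 11],
    [0, 8, 9, 10, 11],
    [0, 1, 3, 5, 9],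
    [0, 6, 10],
    [0, 1, 3, 5, 6, 8],
    [0, 8, 9, 10],
    [0, 1, 3, 5, 9, 11],
    [0, 6, 10, 11],
    [0, 3, 5, 6, 8, 10],
    [0, 1, 8, 9, 11],
    [0, 3, 5, 9, 10, 11],
    [0, 1, 6],
    [0, 3, 5, 6, 8, 10, 11],
    [0, 1, 8, 9],
    [0, 3, 5, 9, 10],
    [0, 1, 6, 11],
    [0, 3, 6, 8, 9, 11],
    [0, 1, 5, 8, 10, 11],
    [0, 3],
    [0, 1, 5, 6, 9, 10],
    [0, 3, 6, 8, 9],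
    [0, 1, 5, 8, 10],
    [0, 3, 11],
    [0, 1, 5, 6, 9, 10, 11],
    [0, 3, 5, 6, 8, 9, 10, 11],
    [0, 1, 8],
    [0, 3, 5, 10],
    [0, 1, 6, 9, 11],
    [0, 3, 5, 6, 8, 9, 10],
    [0, 1, 8, 11],
    [0, 3, 5, 10, 11],
    [0, 1, 6, 9],
    [0, 3, 6, 8],
    [0, 1, 5, 8, 9, 10],
    [0, 3, 9, 11],
    [0, 1, 5, 6, 10, 11],
    [0, 3, 6, 8, 11],
    [0, 1, 5, 8, 9, 10, 11],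
    [0, 3, 9],
    [0, 1, 5, 6, 10],
    [0, 4, 5, 7, 9],
    [0, 1, 3, 4, 6, 7, 10],
    [0, 4, 5, 6, 7, 8],
    [0, 1, 3, 4, 7, 8, 9, 10],
    [0, 4, 5, 7, 9, 11],
    [0, 1, 3, 4, 6, 7, 10, 11],
    [0, 4, 5, 6, 7, 8, 11],
    [0, 1, 3, 4, 7, 8, 9, 10, 11],
    [0, 4, 7, 10],
    [0, 1, 3, 4, 5, 6, 7, 9, 11],
    [0, 4, 6, 7, 8, 9, 10],
    [0, 1, 3, 4, 5, 7, 8, 11],
    [0, 4, 7, 10, 11],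
    [0, 1, 3, 4, 5, 6, 7, 9],
    [0, 4, 6, 7, 8, 9, 10, 11],
    [0, 1, 3, 4, 5, 7, 8],
    [0, 4, 5, 7],
    [0, 1, 3, 4, 6, 7, 9, 10],
    [0, 4, 5, 6, 7, 8, 9],
    [0, 1, 3, 4, 7, 8, 10],
    [0, 4, 5, 7, 11],
    [0, 1, 3, 4, 6, 7, 9, 10, 11],
    [0, 4, 5, 6, 7, 8, 9, 11],
    [0, 1, 3, 4, 7, 8, 10, 11],
    [0, 4, 7, 9, 10],
    [0, 1, 3, 4, 5, 6, 7, 11],
    [0, 4, 6, 7, 8, 10],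
    [0, 1, 3, 4, 5, 7, 8, 9, 11],
    [0, 4, 7, 9, 10, 11],
    [0, 1, 3, 4, 5, 6, 7],
    [0, 4, 6, 7, 8, 10, 11],
    [0, 1, 3, 4, 5, 7, 8, 9],
    [0, 1, 4, 5, 11],
    [0, 3, 4, 6, 9, 10],
    [0, 1, 4, 5, 6, 8, 9],
    [0, 3, 4, 8, 10, 11],
    [0, 1, 4, 5],
    [0, 3, 4, 6, 9, 10, 11],
    [0, 1, 4, 5, 6, 8, 9, 11],
    [0, 3, 4, 8, 10],
    [0, 1, 4, 9, 10],
    [0, 3, 4, 5, 6],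
    [0, 1, 4, 6, 8, 10, 11],
    [0, 3, 4, 5, 8, 9, 11],
    [0, 1, 4, 9, 10, 11],
    [0, 3, 4, 5, 6, 11],
    [0, 1, 4, 6, 8, 10],
    [0, 3, 4, 5, 8, 9],
    [0, 1, 4, 5, 9],
    [0, 3, 4, 6, 10, 11],
    [0, 1, 4, 5, 6, 8, 11],
    [0, 3, 4, 8, 9, 10],
    [0, 1, 4, 5, 9, 11],
    [0, 3, 4, 6, 10],
    [0, 1, 4, 5, 6, 8],
    [0, 3, 4, 8, 9, 10, 11],
    [0, 1, 4, 10, 11],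
    [0, 3, 4, 5, 6, 9, 11],
    [0, 1, 4, 6, 8, 9, 10],
    [0, 3, 4, 5, 8],
    [0, 1, 4, 10],
    [0, 3, 4, 5, 6, 9],
    [0, 1, 4, 6, 8, 9, 10, 11],
    [0, 3, 4, 5, 8, 11],
    [0, 1, 3, 5, 6, 7, 8, 9, 10, 11],
    [0, 7, 8, 11],
    [0, 1, 3, 5, 7, 10, 11],
    [0, 6, 7, 9, 11],
    [0, 1, 3, 5, 6, 7, 8, 9, 10],
    [0, 7, 8],
    [0, 1, 3, 5, 7, 10],
    [0, 6, 7, 9],
    [0, 1, 3, 6, 7, 8, 11],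
    [0, 5, 7, 8, 9, 10],
    [0, 1, 3, 7, 9, 11],
    [0, 5, 6, 7, 10],
    [0, 1, 3, 6, 7, 8],
    [0, 5, 7, 8, 9, 10, 11],
    [0, 1, 3, 7, 9],
    [0, 5, 6, 7, 10, 11],
    [0, 1, 3, 5, 6, 7, 8, 10],
    [0, 7, 8, 9],
    [0, 1, 3, 5, 7, 9, 10],
    [0, 6, 7],
    [0, 1, 3, 5, 6, 7, 8, 10, 11],
    [0, 7, 8, 9, 11],
    [0, 1, 3, 5, 7, 9, 10, 11],
    [0, 6, 7, 11],
    [0, 1, 3, 6, 7, 8, 9],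
    [0, 5, 7, 8, 10, 11],
    [0, 1, 3, 7],
    [0, 5, 6, 7, 9, 10, 11],
    [0, 1, 3, 6, 7, 8, 9, 11],
    [0, 5, 7, 8, 10],
    [0, 1, 3, 7, 11],
    [0, 5, 6, 7, 9, 10],
    [0, 3, 6, 7, 8, 9, 10, 11],
    [0, 1, 5, 7, 8, 11],
    [0, 3, 7, 10, 11],
    [0, 1, 5, 6, 7, 9, 11],
    [0, 3, 6, 7, 8, 9, 10],
    [0, 1, 5, 7, 8],
    [0, 3, 7, 10],
    [0, 1, 5, 6, 7, 9],
    [0, 3, 5, 6, 7, 8],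
    [0, 1, 7, 8, 9, 10, 11],
    [0, 3, 5, 7, 9],
    [0, 1, 6, 7, 10, 11],
    [0, 3, 5, 6, 7, 8, 11],
    [0, 1, 7, 8, 9, 10],
    [0, 3, 5, 7, 9, 11],
    [0, 1, 6, 7, 10],
    [0, 3, 6, 7, 8, 10, 11],
    [0, 1, 5, 7, 8, 9, 11],
    [0, 3, 7, 9, 10, 11],
    [0, 1, 5, 6, 7, 11],
    [0, 3, 6, 7, 8, 10],
    [0, 1, 5, 7, 8, 9],
    [0, 3, 7, 9, 10],
    [0, 1, 5, 6, 7],
    [0, 3, 5, 6, 7, 8, 9],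
    [0, 1, 7, 8, 10, 11],
    [0, 3, 5, 7],
    [0, 1, 6, 7, 9, 10, 11],
    [0, 3, 5, 6, 7, 8, 9, 11],
    [0, 1, 7, 8, 10],
    [0, 3, 5, 7, 11],
    [0, 1, 6, 7, 9, 10],
    [0, 1, 4, 7, 9],
    [0, 3, 4, 5, 6, 7, 10],
    [0, 1, 4, 6, 7, 8],
    [0, 3, 4, 5, 7, 8, 9, 10],
    [0, 1, 4, 7, 9, 11],
    [0, 3, 4, 5, 6, 7, 10, 11],
    [0, 1, 4, 6, 7, 8, 11],
    [0, 3, 4, 5, 7, 8, 9, 10, 11],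
    [0, 1, 4, 5, 7, 10, 11],
    [0, 3, 4, 6, 7, 9],
    [0, 1, 4, 5, 6, 7, 8, 9, 10, 11],
    [0, 3, 4, 7, 8],
    [0, 1, 4, 5, 7, 10],
    [0, 3, 4, 6, 7, 9, 11],
    [0, 1, 4, 5, 6, 7, 8, 9, 10],
    [0, 3, 4, 7, 8, 11],
    [0, 1, 4, 7],
    [0, 3, 4, 5, 6, 7, 9, 10],
    [0, 1, 4, 6, 7, 8, 9],
    [0, 3, 4, 5, 7, 8, 10],
    [0, 1, 4, 7, 11],
    [0, 3, 4, 5, 6, 7, 9, 10, 11],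
    [0, 1, 4, 6, 7, 8, 9, 11],
    [0, 3, 4, 5, 7, 8, 10, 11],
    [0, 1, 4, 5, 7, 9, 10, 11],
    [0, 3, 4, 6, 7],
    [0, 1, 4, 5, 6, 7, 8, 10, 11],
    [0, 3, 4, 7, 8, 9],
    [0, 1, 4, 5, 7, 9, 10],
    [0, 3, 4, 6, 7, 11],
    [0, 1, 4, 5, 6, 7, 8, 10],
    [0, 3, 4, 7, 8, 9, 11],
    [0, 4, 11],
    [0, 1, 3, 4, 5, 6, 9, 10],
    [0, 4, 6, 8, 9],
    [0, 1, 3, 4, 5, 8, 10, 11],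
    [0, 4],
    [0, 1, 3, 4, 5, 6, 9, 10, 11],
    [0, 4, 6, 8, 9, 11],
    [0, 1, 3, 4, 5, 8, 10],
    [0, 4, 5, 9, 10, 11],
    [0, 1, 3, 4, 6, 11],
    [0, 4, 5, 6, 8, 10],
    [0, 1, 3, 4, 8, 9],
    [0, 4, 5, 9, 10],
    [0, 1, 3, 4, 6],
    [0, 4, 5, 6, 8, 10, 11],
    [0, 1, 3, 4, 8, 9, 11],
    [0, 4, 9, 11],
    [0, 1, 3, 4, 5, 6, 10],
    [0, 4, 6, 8],
    [0, 1, 3, 4, 5, 8, 9, 10, 11],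
    [0, 4, 9],
    [0, 1, 3, 4, 5, 6, 10, 11],
    [0, 4, 6, 8, 11],
    [0, 1, 3, 4, 5, 8, 9, 10],
    [0, 4, 5, 10, 11],
    [0, 1, 3, 4, 6, 9, 11],
    [0, 4, 5, 6, 8, 9, 10],
    [0, 1, 3, 4, 8],
    [0, 4, 5, 10],
    [0, 1, 3, 4, 6, 9],
    [0, 4, 5, 6, 8, 9, 10, 11],
    [0, 1, 3, 4, 8, 11],
    [0, 1, 3, 8, 10],
    [0, 5, 6, 8, 9],
    [0, 1, 3, 6, 9, 10, 11],
    [0, 5, 11],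
    [0, 1, 3, 8, 10, 11],
    [0, 5, 6, 8, 9, 11],
    [0, 1, 3, 6, 9, 10],
    [0, 5],
    [0, 1, 3, 5, 8, 9],
    [0, 6, 8, 10, 11],
    [0, 1, 3, 5, 6, 11],
    [0, 9, 10],
    [0, 1, 3, 5, 8, 9, 11],
    [0, 6, 8, 10],
    [0, 1, 3, 5, 6],
    [0, 9, 10, 11],
    [0, 1, 3, 8, 9, 10, 11],
    [0, 5, 6, 8, 11],
    [0, 1, 3, 6, 10],
    [0, 5, 9],
    [0, 1, 3, 8, 9, 10],
    [0, 5, 6, 8],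
    [0, 1, 3, 6, 10, 11],
    [0, 5, 9, 11],
    [0, 1, 3, 5, 8, 11],
    [0, 6, 8, 9, 10],
    [0, 1, 3, 5, 6, 9],
    [0, 10, 11],
    [0, 1, 3, 5, 8],
    [0, 6, 8, 9, 10, 11],
    [0, 1, 3, 5, 6, 9, 11],
    [0, 10],
    [0, 3, 5, 8, 9],
    [0, 1, 6, 8, 10, 11],
    [0, 3, 5, 6, 11],
    [0, 1, 9, 10],
    [0, 3, 5, 8, 9, 11],
    [0, 1, 6, 8, 10],
    [0, 3, 5, 6],
    [0, 1, 9, 10, 11],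
    [0, 3, 8, 10, 11],
    [0, 1, 5, 6, 8, 9, 11],
    [0, 3, 6, 9, 10],
    [0, 1, 5],
    [0, 3, 8, 10],
    [0, 1, 5, 6, 8, 9],
    [0, 3, 6, 9, 10, 11],
    [0, 1, 5, 11],
    [0, 3, 5, 8, 11],
    [0, 1, 6, 8, 9, 10],
    [0, 3, 5, 6, 9],
    [0, 1, 10, 11],
    [0, 3, 5, 8],
    [0, 1, 6, 8, 9, 10, 11],
    [0, 3, 5, 6, 9, 11],
    [0, 1, 10],
    [0, 3, 8, 9, 10],
    [0, 1, 5, 6, 8],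
    [0, 3, 6, 10, 11],
    [0, 1, 5, 9, 11],
    [0, 3, 8, 9, 10, 11],
    [0, 1, 5, 6, 8, 11],
    [0, 3, 6, 10],
    [0, 1, 5, 9],
    [0, 4, 5, 6, 7, 9, 11],
    [0, 1, 3, 4, 7, 10],
    [0, 4, 5, 7, 8, 11],
    [0, 1, 3, 4, 6, 7, 8, 9, 10],
    [0, 4, 5, 6, 7, 9],
    [0, 1, 3, 4, 7, 10, 11],
    [0, 4, 5, 7, 8],
    [0, 1, 3, 4, 6, 7, 8, 9, 10, 11],
    [0, 4, 6, 7, 10, 11],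
    [0, 1, 3, 4, 5, 7, 9, 11],
    [0, 4, 7, 8, 9, 10, 11],
    [0, 1, 3, 4, 5, 6, 7, 8, 11],
    [0, 4, 6, 7, 10],
    [0, 1, 3, 4, 5, 7, 9],
    [0, 4, 7, 8, 9, 10],
    [0, 1, 3, 4, 5, 6, 7, 8],
    [0, 4, 5, 6, 7, 11],
    [0, 1, 3, 4, 7, 9, 10],
    [0, 4, 5, 7, 8, 9, 11],
    [0, 1, 3, 4, 6, 7, 8, 10],
    [0, 4, 5, 6, 7],
    [0, 1, 3, 4, 7, 9, 10, 11],
    [0, 4, 5, 7, 8, 9],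
    [0, 1, 3, 4, 6, 7, 8, 10, 11],
    [0, 4, 6, 7, 9, 10, 11],
    [0, 1, 3, 4, 5, 7, 11],
    [0, 4, 7, 8, 10, 11],
    [0, 1, 3, 4, 5, 6, 7, 8, 9, 11],
    [0, 4, 6, 7, 9, 10],
    [0, 1, 3, 4, 5, 7],
    [0, 4, 7, 8, 10],
    [0, 1, 3, 4, 5, 6, 7, 8, 9],
    [0, 1, 4, 5, 6, 9, 10, 11],
    [0, 3, 4],
    [0, 1, 4, 5, 8, 10],
    [0, 3, 4, 6, 8, 9, 11],
    [0, 1, 4, 5, 6, 9, 10],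
    [0, 3, 4, 11],
    [0, 1, 4, 5, 8, 10, 11],
    [0, 3, 4, 6, 8, 9],
    [0, 1, 4, 6],
    [0, 3, 4, 5, 9, 10],
    [0, 1, 4, 8, 9, 11],
    [0, 3, 4, 5, 6, 8, 10, 11],
    [0, 1, 4, 6, 11],
    [0, 3, 4, 5, 9, 10, 11],
    [0, 1, 4, 8, 9],
    [0, 3, 4, 5, 6, 8, 10],
    [0, 1, 4, 5, 6, 10],
    [0, 3, 4, 9, 11],
    [0, 1, 4, 5, 8, 9, 10, 11],
    [0, 3, 4, 6, 8],
    [0, 1, 4, 5, 6, 10, 11],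
    [0, 3, 4, 9],
    [0, 1, 4, 5, 8, 9, 10],
    [0, 3, 4, 6, 8, 11],
    [0, 1, 4, 6, 9, 11],
    [0, 3, 4, 5, 10, 11],
    [0, 1, 4, 8],
    [0, 3, 4, 5, 6, 8, 9, 10],
    [0, 1, 4, 6, 9],
    [0, 3, 4, 5, 10],
    [0, 1, 4, 8, 11],
    [0, 3, 4, 5, 6, 8, 9, 10, 11],
    [0, 1, 3, 5, 7, 8, 9, 10],
    [0, 6, 7, 8, 11],
    [0, 1, 3, 5, 6, 7, 10],
    [0, 7, 9, 11],
    [0, 1, 3, 5, 7, 8, 9, 10, 11],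
    [0, 6, 7, 8],
    [0, 1, 3, 5, 6, 7, 10, 11],
    [0, 7, 9],
    [0, 1, 3, 7, 8],
    [0, 5, 6, 7, 8, 9, 10],
    [0, 1, 3, 6, 7, 9],
    [0, 5, 7, 10],
    [0, 1, 3, 7, 8, 11],
    [0, 5, 6, 7, 8, 9, 10, 11],
    [0, 1, 3, 6, 7, 9, 11],
    [0, 5, 7, 10, 11],
    [0, 1, 3, 5, 7, 8, 10, 11],
    [0, 6, 7, 8, 9],
    [0, 1, 3, 5, 6, 7, 9, 10, 11],
    [0, 7],
    [0, 1, 3, 5, 7, 8, 10],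
    [0, 6, 7, 8, 9, 11],
    [0, 1, 3, 5, 6, 7, 9, 10],
    [0, 7, 11],
    [0, 1, 3, 7, 8, 9, 11],
    [0, 5, 6, 7, 8, 10, 11],
    [0, 1, 3, 6, 7, 11],
    [0, 5, 7, 9, 10, 11],
    [0, 1, 3, 7, 8, 9],
    [0, 5, 6, 7, 8, 10],
    [0, 1, 3, 6, 7],
    [0, 5, 7, 9, 10],
    [0, 3, 7, 8],
    [0, 1, 5, 6, 7, 8, 9, 10],
    [0, 3, 6, 7, 9],
    [0, 1, 5, 7, 10],
    [0, 3, 7, 8, 11],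
    [0, 1, 5, 6, 7, 8, 9, 10, 11],
    [0, 3, 6, 7, 9, 11],
    [0, 1, 5, 7, 10, 11],
    [0, 3, 5, 7, 8, 9, 10, 11],
    [0, 1, 6, 7, 8],
    [0, 3, 5, 6, 7, 10, 11],
    [0, 1, 7, 9],
    [0, 3, 5, 7, 8, 9, 10],
    [0, 1, 6, 7, 8, 11],
    [0, 3, 5, 6, 7, 10],
    [0, 1, 7, 9, 11],
    [0, 3, 7, 8, 9],
    [0, 1, 5, 6, 7, 8, 10],
    [0, 3, 6, 7],
    [0, 1, 5, 7, 9, 10],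
    [0, 3, 7, 8, 9, 11],
    [0, 1, 5, 6, 7, 8, 10, 11],
    [0, 3, 6, 7, 11],
    [0, 1, 5, 7, 9, 10, 11],
    [0, 3, 5, 7, 8, 10, 11],
    [0, 1, 6, 7, 8, 9],
    [0, 3, 5, 6, 7, 9, 10, 11],
    [0, 1, 7],
    [0, 3, 5, 7, 8, 10],
    [0, 1, 6, 7, 8, 9, 11],
    [0, 3, 5, 6, 7, 9, 10],
    [0, 1, 7, 11],
    [0, 1, 4, 6, 7, 10, 11],
    [0, 3, 4, 5, 7, 9, 11],
    [0, 1, 4, 7, 8, 9, 10, 11],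
    [0, 3, 4, 5, 6, 7, 8, 11],
    [0, 1, 4, 6, 7, 10],
    [0, 3, 4, 5, 7, 9],
    [0, 1, 4, 7, 8, 9, 10],
    [0, 3, 4, 5, 6, 7, 8],
    [0, 1, 4, 5, 6, 7, 9],
    [0, 3, 4, 7, 10, 11],
    [0, 1, 4, 5, 7, 8],
    [0, 3, 4, 6, 7, 8, 9, 10, 11],
    [0, 1, 4, 5, 6, 7, 9, 11],
    [0, 3, 4, 7, 10],
    [0, 1, 4, 5, 7, 8, 11],
    [0, 3, 4, 6, 7, 8, 9, 10],
    [0, 1, 4, 6, 7, 9, 10, 11],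
    [0, 3, 4, 5, 7, 11],
    [0, 1, 4, 7, 8, 10, 11],
    [0, 3, 4, 5, 6, 7, 8, 9, 11],
    [0, 1, 4, 6, 7, 9, 10],
    [0, 3, 4, 5, 7],
    [0, 1, 4, 7, 8, 10],
    [0, 3, 4, 5, 6, 7, 8, 9],
    [0, 1, 4, 5, 6, 7],
    [0, 3, 4, 7, 9, 10, 11],
    [0, 1, 4, 5, 7, 8, 9],
    [0, 3, 4, 6, 7, 8, 10, 11],
    [0, 1, 4, 5, 6, 7, 11],
    [0, 3, 4, 7, 9, 10],
    [0, 1, 4, 5, 7, 8, 9, 11],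
    [0, 3, 4, 6, 7, 8, 10],
    [0, 4, 6, 11],
    [0, 1, 3, 4, 5, 9, 10, 11],
    [0, 4, 8, 9],
    [0, 1, 3, 4, 5, 6, 8, 10],
    [0, 4, 6],
    [0, 1, 3, 4, 5, 9, 10],
    [0, 4, 8, 9, 11],
    [0, 1, 3, 4, 5, 6, 8, 10, 11],
    [0, 4, 5, 6, 9, 10, 11],
    [0, 1, 3, 4],
    [0, 4, 5, 8, 10],
    [0, 1, 3, 4, 6, 8, 9, 11],
    [0, 4, 5, 6, 9, 10],
    [0, 1, 3, 4, 11],
    [0, 4, 5, 8, 10, 11],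
    [0, 1, 3, 4, 6, 8, 9],
    [0, 4, 6, 9, 11],
    [0, 1, 3, 4, 5, 10, 11],
    [0, 4, 8],
    [0, 1, 3, 4, 5, 6, 8, 9, 10],
    [0, 4, 6, 9],
    [0, 1, 3, 4, 5, 10],
    [0, 4, 8, 11],
    [0, 1, 3, 4, 5, 6, 8, 9, 10, 11],
    [0, 4, 5, 6, 10, 11],
    [0, 1, 3, 4, 9],
    [0, 4, 5, 8, 9, 10],
    [0, 1, 3, 4, 6, 8, 11],
    [0, 4, 5, 6, 10],
    [0, 1, 3, 4, 9, 11],
    [0, 4, 5, 8, 9, 10, 11],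
    [0, 1, 3, 4, 6, 8],
    [0, 3, 5, 6, 8, 9],
    [0, 1, 8, 10],
    [0, 3, 5, 11],
    [0, 1, 6, 9, 10, 11],
    [0, 3, 5, 6, 8, 9, 11],
    [0, 1, 8, 10, 11],
    [0, 3, 5],
    [0, 1, 6, 9, 10],
    [0, 3, 6, 8, 10],
    [0, 1, 5, 8, 9, 11],
    [0, 3, 9, 10, 11],
    [0, 1, 5, 6],
    [0, 3, 6, 8, 10, 11],
    [0, 1, 5, 8, 9],
    [0, 3, 9, 10],
    [0, 1, 5, 6, 11],
    [0, 3, 5, 6, 8, 11],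
    [0, 1, 8, 9, 10, 11],
    [0, 3, 5, 9],
    [0, 1, 6, 10],
    [0, 3, 5, 6, 8],
    [0, 1, 8, 9, 10],
    [0, 3, 5, 9, 11],
    [0, 1, 6, 10, 11],
    [0, 3, 6, 8, 9, 10, 11],
    [0, 1, 5, 8],
    [0, 3, 10],
    [0, 1, 5, 6, 9, 11],
    [0, 3, 6, 8, 9, 10],
    [0, 1, 5, 8, 11],
    [0, 3, 10, 11],
    [0, 1, 5, 6, 9],
    [0, 1, 3, 6, 8, 9],
    [0, 5, 8, 10],
    [0, 1, 3, 11],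
    [0, 5, 6, 9, 10, 11],
    [0, 1, 3, 6, 8, 9, 11],
    [0, 5, 8, 10, 11],
    [0, 1, 3],
    [0, 5, 6, 9, 10],
    [0, 1, 3, 5, 6, 8, 10],
    [0, 8, 9, 11],
    [0, 1, 3, 5, 9, 10, 11],
    [0, 6],
    [0, 1, 3, 5, 6, 8, 10, 11],
    [0, 8, 9],
    [0, 1, 3, 5, 9, 10],
    [0, 6, 11],
    [0, 1, 3, 6, 8, 11],
    [0, 5, 8, 9, 10, 11],
    [0, 1, 3, 9],
    [0, 5, 6, 10],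
    [0, 1, 3, 6, 8],
    [0, 5, 8, 9, 10],
    [0, 1, 3, 9, 11],
    [0, 5, 6, 10, 11],
    [0, 1, 3, 5, 6, 8, 9, 10, 11],
    [0, 8],
    [0, 1, 3, 5, 10],
    [0, 6, 9, 11],
    [0, 1, 3, 5, 6, 8, 9, 10],
    [0, 8, 11],
    [0, 1, 3, 5, 10, 11],
    [0, 6, 9],
    [0, 4, 5, 7, 10],
    [0, 1, 3, 4, 6, 7, 9, 11],
    [0, 4, 5, 6, 7, 8, 9, 10],
    [0, 1, 3, 4, 7, 8, 11],
    [0, 4, 5, 7, 10, 11],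
    [0, 1, 3, 4, 6, 7, 9],
    [0, 4, 5, 6, 7, 8, 9, 10, 11],
    [0, 1, 3, 4, 7, 8],
    [0, 4, 7, 9],
    [0, 1, 3, 4, 5, 6, 7, 10],
    [0, 4, 6, 7, 8],
    [0, 1, 3, 4, 5, 7, 8, 9, 10],
    [0, 4, 7, 9, 11],
    [0, 1, 3, 4, 5, 6, 7, 10, 11],
    [0, 4, 6, 7, 8, 11],
    [0, 1, 3, 4, 5, 7, 8, 9, 10, 11],
    [0, 4, 5, 7, 9, 10],
    [0, 1, 3, 4, 6, 7, 11],
    [0, 4, 5, 6, 7, 8, 10],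
    [0, 1, 3, 4, 7, 8, 9, 11],
    [0, 4, 5, 7, 9, 10, 11],
    [0, 1, 3, 4, 6, 7],
    [0, 4, 5, 6, 7, 8, 10, 11],
    [0, 1, 3, 4, 7, 8, 9],
    [0, 4, 7],
    [0, 1, 3, 4, 5, 6, 7, 9, 10],
    [0, 4, 6, 7, 8, 9],
    [0, 1, 3, 4, 5, 7, 8, 10],
    [0, 4, 7, 11],
    [0, 1, 3, 4, 5, 6, 7, 9, 10, 11],
    [0, 4, 6, 7, 8, 9, 11],
    [0, 1, 3, 4, 5, 7, 8, 10, 11],
    [0, 1, 4, 5, 9, 10, 11],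
    [0, 3, 4, 6, 11],
    [0, 1, 4, 5, 6, 8, 10],
    [0, 3, 4, 8, 9],
    [0, 1, 4, 5, 9, 10],
    [0, 3, 4, 6],
    [0, 1, 4, 5, 6, 8, 10, 11],
    [0, 3, 4, 8, 9, 11],
    [0, 1, 4, 11],
    [0, 3, 4, 5, 6, 9, 10],
    [0, 1, 4, 6, 8, 9],
    [0, 3, 4, 5, 8, 10, 11],
    [0, 1, 4],
    [0, 3, 4, 5, 6, 9, 10, 11],
    [0, 1, 4, 6, 8, 9, 11],
    [0, 3, 4, 5, 8, 10],
    [0, 1, 4, 5, 10],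
    [0, 3, 4, 6, 9],
    [0, 1, 4, 5, 6, 8, 9, 10, 11],
    [0, 3, 4, 8, 11],
    [0, 1, 4, 5, 10, 11],
    [0, 3, 4, 6, 9, 11],
    [0, 1, 4, 5, 6, 8, 9, 10],
    [0, 3, 4, 8],
    [0, 1, 4, 9],
    [0, 3, 4, 5, 6, 10, 11],
    [0, 1, 4, 6, 8, 11],
    [0, 3, 4, 5, 8, 9, 10],
    [0, 1, 4, 9, 11],
    [0, 3, 4, 5, 6, 10],
    [0, 1, 4, 6, 8],
    [0, 3, 4, 5, 8, 9, 10, 11],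
    [0, 3, 6, 7, 8, 11],
    [0, 1, 5, 7, 8, 9, 10],
    [0, 3, 7, 9, 11],
    [0, 1, 5, 6, 7, 10],
    [0, 3, 6, 7, 8],
    [0, 1, 5, 7, 8, 9, 10, 11],
    [0, 3, 7, 9],
    [0, 1, 5, 6, 7, 10, 11],
    [0, 3, 5, 6, 7, 8, 9, 10, 11],
    [0, 1, 7, 8, 11],
    [0, 3, 5, 7, 10, 11],
    [0, 1, 6, 7, 9, 11],
    [0, 3, 5, 6, 7, 8, 9, 10],
    [0, 1, 7, 8],
    [0, 3, 5, 7, 10],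
    [0, 1, 6, 7, 9],
    [0, 3, 6, 7, 8, 9, 11],
    [0, 1, 5, 7, 8, 10],
    [0, 3, 7, 11],
    [0, 1, 5, 6, 7, 9, 10],
    [0, 3, 6, 7, 8, 9],
    [0, 1, 5, 7, 8, 10, 11],
    [0, 3, 7],
    [0, 1, 5, 6, 7, 9, 10, 11],
    [0, 3, 5, 6, 7, 8, 10, 11],
    [0, 1, 7, 8, 9, 11],
    [0, 3, 5, 7, 9, 10, 11],
    [0, 1, 6, 7, 11],
    [0, 3, 5, 6, 7, 8, 10],
    [0, 1, 7, 8, 9],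
    [0, 3, 5, 7, 9, 10],
    [0, 1, 6, 7],
    [0, 1, 3, 5, 6, 7, 8, 11],
    [0, 7, 8, 9, 10],
    [0, 1, 3, 5, 7, 9, 11],
    [0, 6, 7, 10],
    [0, 1, 3, 5, 6, 7, 8],
    [0, 7, 8, 9, 10, 11],
    [0, 1, 3, 5, 7, 9],
    [0, 6, 7, 10, 11],
    [0, 1, 3, 6, 7, 8, 9, 10, 11],
    [0, 5, 7, 8, 11],
    [0, 1, 3, 7, 10, 11],
    [0, 5, 6, 7, 9, 11],
    [0, 1, 3, 6, 7, 8, 9, 10],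
    [0, 5, 7, 8],
    [0, 1, 3, 7, 10],
    [0, 5, 6, 7, 9],
    [0, 1, 3, 5, 6, 7, 8, 9],
    [0, 7, 8, 10, 11],
    [0, 1, 3, 5, 7],
    [0, 6, 7, 9, 10, 11],
    [0, 1, 3, 5, 6, 7, 8, 9, 11],
    [0, 7, 8, 10],
    [0, 1, 3, 5, 7, 11],
    [0, 6, 7, 9, 10],
    [0, 1, 3, 6, 7, 8, 10],
    [0, 5, 7, 8, 9],
    [0, 1, 3, 7, 9, 10],
    [0, 5, 6, 7],
    [0, 1, 3, 6, 7, 8, 10, 11],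
    [0, 5, 7, 8, 9, 11],
    [0, 1, 3, 7, 9, 10, 11],
    [0, 5, 6, 7, 11],
    [0, 1, 4, 7, 10],
    [0, 3, 4, 5, 6, 7, 9, 11],
    [0, 1, 4, 6, 7, 8, 9, 10],
    [0, 3, 4, 5, 7, 8, 11],
    [0, 1, 4, 7, 10, 11],
    [0, 3, 4, 5, 6, 7, 9],
    [0, 1, 4, 6, 7, 8, 9, 10, 11],
    [0, 3, 4, 5, 7, 8],
    [0, 1, 4, 5, 7, 9],
    [0, 3, 4, 6, 7, 10],
    [0, 1, 4, 5, 6, 7, 8],
    [0, 3, 4, 7, 8, 9, 10],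
    [0, 1, 4, 5, 7, 9, 11],
    [0, 3, 4, 6, 7, 10, 11],
    [0, 1, 4, 5, 6, 7, 8, 11],
    [0, 3, 4, 7, 8, 9, 10, 11],
    [0, 1, 4, 7, 9, 10],
    [0, 3, 4, 5, 6, 7, 11],
    [0, 1, 4, 6, 7, 8, 10],
    [0, 3, 4, 5, 7, 8, 9, 11],
    [0, 1, 4, 7, 9, 10, 11],
    [0, 3, 4, 5, 6, 7],
    [0, 1, 4, 6, 7, 8, 10, 11],
    [0, 3, 4, 5, 7, 8, 9],
    [0, 1, 4, 5, 7],
    [0, 3, 4, 6, 7, 9, 10],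
    [0, 1, 4, 5, 6, 7, 8, 9],
    [0, 3, 4, 7, 8, 10],
    [0, 1, 4, 5, 7, 11],
    [0, 3, 4, 6, 7, 9, 10, 11],
    [0, 1, 4, 5, 6, 7, 8, 9, 11],
    [0, 3, 4, 7, 8, 10, 11],
    [0, 4, 9, 10, 11],
    [0, 1, 3, 4, 5, 6, 11],
    [0, 4, 6, 8, 10],
    [0, 1, 3, 4, 5, 8, 9],
    [0, 4, 9, 10],
    [0, 1, 3, 4, 5, 6],
    [0, 4, 6, 8, 10, 11],
    [0, 1, 3, 4, 5, 8, 9, 11],
    [0, 4, 5, 11],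
    [0, 1, 3, 4, 6, 9, 10],
    [0, 4, 5, 6, 8, 9],
    [0, 1, 3, 4, 8, 10, 11],
    [0, 4, 5],
    [0, 1, 3, 4, 6, 9, 10, 11],
    [0, 4, 5, 6, 8, 9, 11],
    [0, 1, 3, 4, 8, 10],
    [0, 4, 10, 11],
    [0, 1, 3, 4, 5, 6, 9, 11],
    [0, 4, 6, 8, 9, 10],
    [0, 1, 3, 4, 5, 8],
    [0, 4, 10],
    [0, 1, 3, 4, 5, 6, 9],
    [0, 4, 6, 8, 9, 10, 11],
    [0, 1, 3, 4, 5, 8, 11],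
    [0, 4, 5, 9, 11],
    [0, 1, 3, 4, 6, 10],
    [0, 4, 5, 6, 8],
    [0, 1, 3, 4, 8, 9, 10, 11],
    [0, 4, 5, 9],
    [0, 1, 3, 4, 6, 10, 11],
    [0, 4, 5, 6, 8, 11],
    [0, 1, 3, 4, 8, 9, 10],
    [0, 1, 2, 3, 10, 11],
    [0, 2, 5, 8, 9, 10, 11],
    [0, 1, 2, 3, 6, 8, 9, 10],
    [0, 2, 5, 6, 10],
    [0, 1, 2, 3, 10],
    [0, 2, 5, 8, 9, 10],
    [0, 1, 2, 3, 6, 8, 9, 10, 11],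
    [0, 2, 5, 6, 10, 11],
    [0, 1, 2, 3, 5, 11],
    [0, 2, 8, 9],
    [0, 1, 2, 3, 5, 6, 8, 9],
    [0, 2, 6, 11],
    [0, 1, 2, 3, 5],
    [0, 2, 8, 9, 11],
    [0, 1, 2, 3, 5, 6, 8, 9, 11],
    [0, 2, 6],
    [0, 1, 2, 3, 9, 10],
    [0, 2, 5, 8, 10],
    [0, 1, 2, 3, 6, 8, 10, 11],
    [0, 2, 5, 6, 9, 10, 11],
    [0, 1, 2, 3, 9, 10, 11],
    [0, 2, 5, 8, 10, 11],
    [0, 1, 2, 3, 6, 8, 10],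
    [0, 2, 5, 6, 9, 10],
    [0, 1, 2, 3, 5, 9],
    [0, 2, 8, 11],
    [0, 1, 2, 3, 5, 6, 8, 11],
    [0, 2, 6, 9],
    [0, 1, 2, 3, 5, 9, 11],
    [0, 2, 8],
    [0, 1, 2, 3, 5, 6, 8],
    [0, 2, 6, 9, 11],
    [0, 2, 3, 5, 11],
    [0, 1, 2, 8, 9],
    [0, 2, 3, 5, 6, 8, 9],
    [0, 1, 2, 6, 11],
    [0, 2, 3, 5],
    [0, 1, 2, 8, 9, 11],
    [0, 2, 3, 5, 6, 8, 9, 11],
    [0, 1, 2, 6],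
    [0, 2, 3, 10, 11],
    [0, 1, 2, 5, 8, 9, 10, 11],
    [0, 2, 3, 6, 8, 9, 10],
    [0, 1, 2, 5, 6, 10],
    [0, 2, 3, 10],
    [0, 1, 2, 5, 8, 9, 10],
    [0, 2, 3, 6, 8, 9, 10, 11],
    [0, 1, 2, 5, 6, 10, 11],
    [0, 2, 3, 5, 9],
    [0, 1, 2, 8, 11],
    [0, 2, 3, 5, 6, 8, 11],
    [0, 1, 2, 6, 9],
    [0, 2, 3, 5, 9, 11],
    [0, 1, 2, 8],
    [0, 2, 3, 5, 6, 8],
    [0, 1, 2, 6, 9, 11],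
    [0, 2, 3, 9, 10],
    [0, 1, 2, 5, 8, 10],
    [0, 2, 3, 6, 8, 10, 11],
    [0, 1, 2, 5, 6, 9, 10, 11],
    [0, 2, 3, 9, 10, 11],
    [0, 1, 2, 5, 8, 10, 11],
    [0, 2, 3, 6, 8, 10],
    [0, 1, 2, 5, 6, 9, 10],
    [0, 2, 4, 5, 6, 7, 8, 10],
    [0, 1, 2, 3, 4, 6, 7, 9, 10, 11],
    [0, 2, 4, 5, 7, 9, 10],
    [0, 1, 2, 3, 4, 7, 8, 10, 11],
    [0, 2, 4, 5, 6, 7, 8, 10, 11],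
    [0, 1, 2, 3, 4, 6, 7, 9, 10],
    [0, 2, 4, 5, 7, 9, 10, 11],
    [0, 1, 2, 3, 4, 7, 8, 10],
    [0, 2, 4, 6, 7, 8, 11],
    [0, 1, 2, 3, 4, 5, 6, 7, 9, 11],
    [0, 2, 4, 7, 9, 11],
    [0, 1, 2, 3, 4, 5, 7, 8, 11],
    [0, 2, 4, 6, 7, 8],
    [0, 1, 2, 3, 4, 5, 6, 7, 9],
    [0, 2, 4, 7, 9],
    [0, 1, 2, 3, 4, 5, 7, 8],
    [0, 2, 4, 5, 6, 7, 8, 9, 10],
    [0, 1, 2, 3, 4, 6, 7, 10, 11],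
    [0, 2, 4, 5, 7, 10],
    [0, 1, 2, 3, 4, 7, 8, 9, 10, 11],
    [0, 2, 4, 5, 6, 7, 8, 9, 10, 11],
    [0, 1, 2, 3, 4, 6, 7, 10],
    [0, 2, 4, 5, 7, 10, 11],
    [0, 1, 2, 3, 4, 7, 8, 9, 10],
    [0, 2, 4, 6, 7, 8, 9, 11],
    [0, 1, 2, 3, 4, 5, 6, 7, 11],
    [0, 2, 4, 7, 11],
    [0, 1, 2, 3, 4, 5, 7, 8, 9, 11],
    [0, 2, 4, 6, 7, 8, 9],
    [0, 1, 2, 3, 4, 5, 6, 7],
    [0, 2, 4, 7],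
    [0, 1, 2, 3, 4, 5, 7, 8, 9],
    [0, 1, 2, 4, 5, 6, 8, 9],
    [0, 2, 3, 4, 6],
    [0, 1, 2, 4, 5, 11],
    [0, 2, 3, 4, 8, 9, 11],
    [0, 1, 2, 4, 5, 6, 8, 9, 11],
    [0, 2, 3, 4, 6, 11],
    [0, 1, 2, 4, 5],
    [0, 2, 3, 4, 8, 9],
    [0, 1, 2, 4, 6, 8, 9, 10],
    [0, 2, 3, 4, 5, 6, 10, 11],
    [0, 1, 2, 4, 10, 11],
    [0, 2, 3, 4, 5, 8, 9, 10],
    [0, 1, 2, 4, 6, 8, 9, 10, 11],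
    [0, 2, 3, 4, 5, 6, 10],
    [0, 1, 2, 4, 10],
    [0, 2, 3, 4, 5, 8, 9, 10, 11],
    [0, 1, 2, 4, 5, 6, 8, 11],
    [0, 2, 3, 4, 6, 9, 11],
    [0, 1, 2, 4, 5, 9],
    [0, 2, 3, 4, 8],
    [0, 1, 2, 4, 5, 6, 8],
    [0, 2, 3, 4, 6, 9],
    [0, 1, 2, 4, 5, 9, 11],
    [0, 2, 3, 4, 8, 11],
    [0, 1, 2, 4, 6, 8, 10, 11],
    [0, 2, 3, 4, 5, 6, 9, 10],
    [0, 1, 2, 4, 9, 10],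
    [0, 2, 3, 4, 5, 8, 10, 11],
    [0, 1, 2, 4, 6, 8, 10],
    [0, 2, 3, 4, 5, 6, 9, 10, 11],
    [0, 1, 2, 4, 9, 10, 11],
    [0, 2, 3, 4, 5, 8, 10],
    [0, 1, 2, 3, 5, 7, 9, 10],
    [0, 2, 7, 8, 10],
    [0, 1, 2, 3, 5, 6, 7, 8, 10],
    [0, 2, 6, 7, 9, 10],
    [0, 1, 2, 3, 5, 7, 9, 10, 11],
    [0, 2, 7, 8, 10, 11],
    [0, 1, 2, 3, 5, 6, 7, 8, 10, 11],
    [0, 2, 6, 7, 9, 10, 11],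
    [0, 1, 2, 3, 7, 9],
    [0, 2, 5, 7, 8, 11],
    [0, 1, 2, 3, 6, 7, 8],
    [0, 2, 5, 6, 7, 9, 11],
    [0, 1, 2, 3, 7, 9, 11],
    [0, 2, 5, 7, 8],
    [0, 1, 2, 3, 6, 7, 8, 11],
    [0, 2, 5, 6, 7, 9],
    [0, 1, 2, 3, 5, 7, 10, 11],
    [0, 2, 7, 8, 9, 10, 11],
    [0, 1, 2, 3, 5, 6, 7, 8, 9, 10, 11],
    [0, 2, 6, 7, 10, 11],
    [0, 1, 2, 3, 5, 7, 10],
    [0, 2, 7, 8, 9, 10],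
    [0, 1, 2, 3, 5, 6, 7, 8, 9, 10],
    [0, 2, 6, 7, 10],
    [0, 1, 2, 3, 7, 11],
    [0, 2, 5, 7, 8, 9],
    [0, 1, 2, 3, 6, 7, 8, 9, 11],
    [0, 2, 5, 6, 7],
    [0, 1, 2, 3, 7],
    [0, 2, 5, 7, 8, 9, 11],
    [0, 1, 2, 3, 6, 7, 8, 9],
    [0, 2, 5, 6, 7, 11],
    [0, 2, 3, 7, 9],
    [0, 1, 2, 5, 7, 8, 11],
    [0, 2, 3, 6, 7, 8],
    [0, 1, 2, 5, 6, 7, 9, 11],
    [0, 2, 3, 7, 9, 11],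
    [0, 1, 2, 5, 7, 8],
    [0, 2, 3, 6, 7, 8, 11],
    [0, 1, 2, 5, 6, 7, 9],
    [0, 2, 3, 5, 7, 9, 10, 11],
    [0, 1, 2, 7, 8, 10, 11],
    [0, 2, 3, 5, 6, 7, 8, 10, 11],
    [0, 1, 2, 6, 7, 9, 10, 11],
    [0, 2, 3, 5, 7, 9, 10],
    [0, 1, 2, 7, 8, 10],
    [0, 2, 3, 5, 6, 7, 8, 10],
    [0, 1, 2, 6, 7, 9, 10],
    [0, 2, 3, 7],
    [0, 1, 2, 5, 7, 8, 9, 11],
    [0, 2, 3, 6, 7, 8, 9],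
    [0, 1, 2, 5, 6, 7, 11],
    [0, 2, 3, 7, 11],
    [0, 1, 2, 5, 7, 8, 9],
    [0, 2, 3, 6, 7, 8, 9, 11],
    [0, 1, 2, 5, 6, 7],
    [0, 2, 3, 5, 7, 10, 11],
    [0, 1, 2, 7, 8, 9, 10, 11],
    [0, 2, 3, 5, 6, 7, 8, 9, 10, 11],
    [0, 1, 2, 6, 7, 10, 11],
    [0, 2, 3, 5, 7, 10],
    [0, 1, 2, 7, 8, 9, 10],
    [0, 2, 3, 5, 6, 7, 8, 9, 10],
    [0, 1, 2, 6, 7, 10],
    [0, 1, 2, 4, 6, 7, 8, 11],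
    [0, 2, 3, 4, 5, 6, 7, 9, 11],
    [0, 1, 2, 4, 7, 9, 11],
    [0, 2, 3, 4, 5, 7, 8, 11],
    [0, 1, 2, 4, 6, 7, 8],
    [0, 2, 3, 4, 5, 6, 7, 9],
    [0, 1, 2, 4, 7, 9],
    [0, 2, 3, 4, 5, 7, 8],
    [0, 1, 2, 4, 5, 6, 7, 8, 10],
    [0, 2, 3, 4, 6, 7, 9, 10, 11],
    [0, 1, 2, 4, 5, 7, 9, 10],
    [0, 2, 3, 4, 7, 8, 10, 11],
    [0, 1, 2, 4, 5, 6, 7, 8, 10, 11],
    [0, 2, 3, 4, 6, 7, 9, 10],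
    [0, 1, 2, 4, 5, 7, 9, 10, 11],
    [0, 2, 3, 4, 7, 8, 10],
    [0, 1, 2, 4, 6, 7, 8, 9, 11],
    [0, 2, 3, 4, 5, 6, 7, 11],
    [0, 1, 2, 4, 7, 11],
    [0, 2, 3, 4, 5, 7, 8, 9, 11],
    [0, 1, 2, 4, 6, 7, 8, 9],
    [0, 2, 3, 4, 5, 6, 7],
    [0, 1, 2, 4, 7],
    [0, 2, 3, 4, 5, 7, 8, 9],
    [0, 1, 2, 4, 5, 6, 7, 8, 9, 10],
    [0, 2, 3, 4, 6, 7, 10, 11],
    [0, 1, 2, 4, 5, 7, 10],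
    [0, 2, 3, 4, 7, 8, 9, 10, 11],
    [0, 1, 2, 4, 5, 6, 7, 8, 9, 10, 11],
    [0, 2, 3, 4, 6, 7, 10],
    [0, 1, 2, 4, 5, 7, 10, 11],
    [0, 2, 3, 4, 7, 8, 9, 10],
    [0, 2, 4, 6, 8, 9, 10, 11],
    [0, 1, 2, 3, 4, 5, 6, 10],
    [0, 2, 4, 10],
    [0, 1, 2, 3, 4, 5, 8, 9, 10, 11],
    [0, 2, 4, 6, 8, 9, 10],
    [0, 1, 2, 3, 4, 5, 6, 10, 11],
    [0, 2, 4, 10, 11],
    [0, 1, 2, 3, 4, 5, 8, 9, 10],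
    [0, 2, 4, 5, 6, 8, 9],
    [0, 1, 2, 3, 4, 6],
    [0, 2, 4, 5, 11],
    [0, 1, 2, 3, 4, 8, 9, 11],
    [0, 2, 4, 5, 6, 8, 9, 11],
    [0, 1, 2, 3, 4, 6, 11],
    [0, 2, 4, 5],
    [0, 1, 2, 3, 4, 8, 9],
    [0, 2, 4, 6, 8, 10, 11],
    [0, 1, 2, 3, 4, 5, 6, 9, 10],
    [0, 2, 4, 9, 10],
    [0, 1, 2, 3, 4, 5, 8, 10, 11],
    [0, 2, 4, 6, 8, 10],
    [0, 1, 2, 3, 4, 5, 6, 9, 10, 11],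
    [0, 2, 4, 9, 10, 11],
    [0, 1, 2, 3, 4, 5, 8, 10],
    [0, 2, 4, 5, 6, 8],
    [0, 1, 2, 3, 4, 6, 9],
    [0, 2, 4, 5, 9, 11],
    [0, 1, 2, 3, 4, 8, 11],
    [0, 2, 4, 5, 6, 8, 11],
    [0, 1, 2, 3, 4, 6, 9, 11],
    [0, 2, 4, 5, 9],
    [0, 1, 2, 3, 4, 8],
    [0, 1, 2, 3, 6, 9, 11],
    [0, 2, 5, 6, 8, 11],
    [0, 1, 2, 3, 8],
    [0, 2, 5, 9],
    [0, 1, 2, 3, 6, 9],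
    [0, 2, 5, 6, 8],
    [0, 1, 2, 3, 8, 11],
    [0, 2, 5, 9, 11],
    [0, 1, 2, 3, 5, 6, 9, 10, 11],
    [0, 2, 6, 8, 10],
    [0, 1, 2, 3, 5, 8, 10],
    [0, 2, 9, 10, 11],
    [0, 1, 2, 3, 5, 6, 9, 10],
    [0, 2, 6, 8, 10, 11],
    [0, 1, 2, 3, 5, 8, 10, 11],
    [0, 2, 9, 10],
    [0, 1, 2, 3, 6],
    [0, 2, 5, 6, 8, 9],
    [0, 1, 2, 3, 8, 9, 11],
    [0, 2, 5, 11],
    [0, 1, 2, 3, 6, 11],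
    [0, 2, 5, 6, 8, 9, 11],
    [0, 1, 2, 3, 8, 9],
    [0, 2, 5],
    [0, 1, 2, 3, 5, 6, 10],
    [0, 2, 6, 8, 9, 10, 11],
    [0, 1, 2, 3, 5, 8, 9, 10, 11],
    [0, 2, 10],
    [0, 1, 2, 3, 5, 6, 10, 11],
    [0, 2, 6, 8, 9, 10],
    [0, 1, 2, 3, 5, 8, 9, 10],
    [0, 2, 10, 11],
    [0, 2, 3, 5, 6, 11],
    [0, 1, 2, 6, 8, 9, 11],
    [0, 2, 3, 5, 8, 9],
    [0, 1, 2],
    [0, 2, 3, 5, 6],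
    [0, 1, 2, 6, 8, 9],
    [0, 2, 3, 5, 8, 9, 11],
    [0, 1, 2, 11],
    [0, 2, 3, 6, 10],
    [0, 1, 2, 5, 6, 8, 9, 10, 11],
    [0, 2, 3, 8, 9, 10, 11],
    [0, 1, 2, 5, 10],
    [0, 2, 3, 6, 10, 11],
    [0, 1, 2, 5, 6, 8, 9, 10],
    [0, 2, 3, 8, 9, 10],
    [0, 1, 2, 5, 10, 11],
    [0, 2, 3, 5, 6, 9],
    [0, 1, 2, 6, 8],
    [0, 2, 3, 5, 8, 11],
    [0, 1, 2, 9, 11],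
    [0, 2, 3, 5, 6, 9, 11],
    [0, 1, 2, 6, 8, 11],
    [0, 2, 3, 5, 8],
    [0, 1, 2, 9],
    [0, 2, 3, 6, 9, 10, 11],
    [0, 1, 2, 5, 6, 8, 10],
    [0, 2, 3, 8, 10],
    [0, 1, 2, 5, 9, 10, 11],
    [0, 2, 3, 6, 9, 10],
    [0, 1, 2, 5, 6, 8, 10, 11],
    [0, 2, 3, 8, 10, 11],
    [0, 1, 2, 5, 9, 10],
    [0, 2, 4, 5, 7, 8, 9, 11],
    [0, 1, 2, 3, 4, 7],
    [0, 2, 4, 5, 6, 7, 11],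
    [0, 1, 2, 3, 4, 6, 7, 8, 9],
    [0, 2, 4, 5, 7, 8, 9],
    [0, 1, 2, 3, 4, 7, 11],
    [0, 2, 4, 5, 6, 7],
    [0, 1, 2, 3, 4, 6, 7, 8, 9, 11],
    [0, 2, 4, 7, 8, 9, 10],
    [0, 1, 2, 3, 4, 5, 7, 10],
    [0, 2, 4, 6, 7, 10],
    [0, 1, 2, 3, 4, 5, 6, 7, 8, 9, 10],
    [0, 2, 4, 7, 8, 9, 10, 11],
    [0, 1, 2, 3, 4, 5, 7, 10, 11],
    [0, 2, 4, 6, 7, 10, 11],
    [0, 1, 2, 3, 4, 5, 6, 7, 8, 9, 10, 11],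
    [0, 2, 4, 5, 7, 8, 11],
    [0, 1, 2, 3, 4, 7, 9],
    [0, 2, 4, 5, 6, 7, 9, 11],
    [0, 1, 2, 3, 4, 6, 7, 8],
    [0, 2, 4, 5, 7, 8],
    [0, 1, 2, 3, 4, 7, 9, 11],
    [0, 2, 4, 5, 6, 7, 9],
    [0, 1, 2, 3, 4, 6, 7, 8, 11],
    [0, 2, 4, 7, 8, 10],
    [0, 1, 2, 3, 4, 5, 7, 9, 10],
    [0, 2, 4, 6, 7, 9, 10],
    [0, 1, 2, 3, 4, 5, 6, 7, 8, 10],
    [0, 2, 4, 7, 8, 10, 11],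
    [0, 1, 2, 3, 4, 5, 7, 9, 10, 11],
    [0, 2, 4, 6, 7, 9, 10, 11],
    [0, 1, 2, 3, 4, 5, 6, 7, 8, 10, 11],
    [0, 1, 2, 4, 5, 8, 9],
    [0, 2, 3, 4, 11],
    [0, 1, 2, 4, 5, 6, 11],
    [0, 2, 3, 4, 6, 8, 9],
    [0, 1, 2, 4, 5, 8, 9, 11],
    [0, 2, 3, 4],
    [0, 1, 2, 4, 5, 6],
    [0, 2, 3, 4, 6, 8, 9, 11],
    [0, 1, 2, 4, 8, 9, 10, 11],
    [0, 2, 3, 4, 5, 10, 11],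
    [0, 1, 2, 4, 6, 10],
    [0, 2, 3, 4, 5, 6, 8, 9, 10],
    [0, 1, 2, 4, 8, 9, 10],
    [0, 2, 3, 4, 5, 10],
    [0, 1, 2, 4, 6, 10, 11],
    [0, 2, 3, 4, 5, 6, 8, 9, 10, 11],
    [0, 1, 2, 4, 5, 8, 11],
    [0, 2, 3, 4, 9],
    [0, 1, 2, 4, 5, 6, 9],
    [0, 2, 3, 4, 6, 8, 11],
    [0, 1, 2, 4, 5, 8],
    [0, 2, 3, 4, 9, 11],
    [0, 1, 2, 4, 5, 6, 9, 11],
    [0, 2, 3, 4, 6, 8],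
    [0, 1, 2, 4, 8, 10],
    [0, 2, 3, 4, 5, 9, 10],
    [0, 1, 2, 4, 6, 9, 10, 11],
    [0, 2, 3, 4, 5, 6, 8, 10, 11],
    [0, 1, 2, 4, 8, 10, 11],
    [0, 2, 3, 4, 5, 9, 10, 11],
    [0, 1, 2, 4, 6, 9, 10],
    [0, 2, 3, 4, 5, 6, 8, 10],
    [0, 2, 3, 6, 7, 9, 11],
    [0, 1, 2, 5, 6, 7, 8, 11],
    [0, 2, 3, 7, 8, 11],
    [0, 1, 2, 5, 7, 9, 11],
    [0, 2, 3, 6, 7, 9],
    [0, 1, 2, 5, 6, 7, 8],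
    [0, 2, 3, 7, 8],
    [0, 1, 2, 5, 7, 9],
    [0, 2, 3, 5, 6, 7, 9, 10, 11],
    [0, 1, 2, 6, 7, 8, 10],
    [0, 2, 3, 5, 7, 8, 10, 11],
    [0, 1, 2, 7, 9, 10],
    [0, 2, 3, 5, 6, 7, 9, 10],
    [0, 1, 2, 6, 7, 8, 10, 11],
    [0, 2, 3, 5, 7, 8, 10],
    [0, 1, 2, 7, 9, 10, 11],
    [0, 2, 3, 6, 7, 11],
    [0, 1, 2, 5, 6, 7, 8, 9, 11],
    [0, 2, 3, 7, 8, 9, 11],
    [0, 1, 2, 5, 7, 11],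
    [0, 2, 3, 6, 7],
    [0, 1, 2, 5, 6, 7, 8, 9],
    [0, 2, 3, 7, 8, 9],
    [0, 1, 2, 5, 7],
    [0, 2, 3, 5, 6, 7, 10, 11],
    [0, 1, 2, 6, 7, 8, 9, 10],
    [0, 2, 3, 5, 7, 8, 9, 10, 11],
    [0, 1, 2, 7, 10],
    [0, 2, 3, 5, 6, 7, 10],
    [0, 1, 2, 6, 7, 8, 9, 10, 11],
    [0, 2, 3, 5, 7, 8, 9, 10],
    [0, 1, 2, 7, 10, 11],
    [0, 1, 2, 3, 5, 6, 7, 11],
    [0, 2, 6, 7, 8, 9, 11],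
    [0, 1, 2, 3, 5, 7, 8, 9, 11],
    [0, 2, 7, 11],
    [0, 1, 2, 3, 5, 6, 7],
    [0, 2, 6, 7, 8, 9],
    [0, 1, 2, 3, 5, 7, 8, 9],
    [0, 2, 7],
    [0, 1, 2, 3, 6, 7, 10, 11],
    [0, 2, 5, 6, 7, 8, 9, 10],
    [0, 1, 2, 3, 7, 8, 9, 10, 11],
    [0, 2, 5, 7, 10],
    [0, 1, 2, 3, 6, 7, 10],
    [0, 2, 5, 6, 7, 8, 9, 10, 11],
    [0, 1, 2, 3, 7, 8, 9, 10],
    [0, 2, 5, 7, 10, 11],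
    [0, 1, 2, 3, 5, 6, 7, 9],
    [0, 2, 6, 7, 8],
    [0, 1, 2, 3, 5, 7, 8],
    [0, 2, 7, 9],
    [0, 1, 2, 3, 5, 6, 7, 9, 11],
    [0, 2, 6, 7, 8, 11],
    [0, 1, 2, 3, 5, 7, 8, 11],
    [0, 2, 7, 9, 11],
    [0, 1, 2, 3, 6, 7, 9, 10],
    [0, 2, 5, 6, 7, 8, 10, 11],
    [0, 1, 2, 3, 7, 8, 10],
    [0, 2, 5, 7, 9, 10, 11],
    [0, 1, 2, 3, 6, 7, 9, 10, 11],
    [0, 2, 5, 6, 7, 8, 10],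
    [0, 1, 2, 3, 7, 8, 10, 11],
    [0, 2, 5, 7, 9, 10],
    [0, 1, 2, 4, 7, 8],
    [0, 2, 3, 4, 5, 7, 9, 11],
    [0, 1, 2, 4, 6, 7, 9],
    [0, 2, 3, 4, 5, 6, 7, 8, 11],
    [0, 1, 2, 4, 7, 8, 11],
    [0, 2, 3, 4, 5, 7, 9],
    [0, 1, 2, 4, 6, 7, 9, 11],
    [0, 2, 3, 4, 5, 6, 7, 8],
    [0, 1, 2, 4, 5, 7, 8, 10],
    [0, 2, 3, 4, 7, 9, 10],
    [0, 1, 2, 4, 5, 6, 7, 9, 10],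
    [0, 2, 3, 4, 6, 7, 8, 10],
    [0, 1, 2, 4, 5, 7, 8, 10, 11],
    [0, 2, 3, 4, 7, 9, 10, 11],
    [0, 1, 2, 4, 5, 6, 7, 9, 10, 11],
    [0, 2, 3, 4, 6, 7, 8, 10, 11],
    [0, 1, 2, 4, 7, 8, 9],
    [0, 2, 3, 4, 5, 7, 11],
    [0, 1, 2, 4, 6, 7],
    [0, 2, 3, 4, 5, 6, 7, 8, 9, 11],
    [0, 1, 2, 4, 7, 8, 9, 11],
    [0, 2, 3, 4, 5, 7],
    [0, 1, 2, 4, 6, 7, 11],
    [0, 2, 3, 4, 5, 6, 7, 8, 9],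
    [0, 1, 2, 4, 5, 7, 8, 9, 10],
    [0, 2, 3, 4, 7, 10],
    [0, 1, 2, 4, 5, 6, 7, 10],
    [0, 2, 3, 4, 6, 7, 8, 9, 10],
    [0, 1, 2, 4, 5, 7, 8, 9, 10, 11],
    [0, 2, 3, 4, 7, 10, 11],
    [0, 1, 2, 4, 5, 6, 7, 10, 11],
    [0, 2, 3, 4, 6, 7, 8, 9, 10, 11],
    [0, 2, 4, 8, 11],
    [0, 1, 2, 3, 4, 5, 9],
    [0, 2, 4, 6, 9],
    [0, 1, 2, 3, 4, 5, 6, 8, 11],
    [0, 2, 4, 8],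
    [0, 1, 2, 3, 4, 5, 9, 11],
    [0, 2, 4, 6, 9, 11],
    [0, 1, 2, 3, 4, 5, 6, 8],
    [0, 2, 4, 5, 8, 10],
    [0, 1, 2, 3, 4, 9, 10],
    [0, 2, 4, 5, 6, 9, 10, 11],
    [0, 1, 2, 3, 4, 6, 8, 10, 11],
    [0, 2, 4, 5, 8, 10, 11],
    [0, 1, 2, 3, 4, 9, 10, 11],
    [0, 2, 4, 5, 6, 9, 10],
    [0, 1, 2, 3, 4, 6, 8, 10],
    [0, 2, 4, 8, 9, 11],
    [0, 1, 2, 3, 4, 5],
    [0, 2, 4, 6],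
    [0, 1, 2, 3, 4, 5, 6, 8, 9, 11],
    [0, 2, 4, 8, 9],
    [0, 1, 2, 3, 4, 5, 11],
    [0, 2, 4, 6, 11],
    [0, 1, 2, 3, 4, 5, 6, 8, 9],
    [0, 2, 4, 5, 8, 9, 10],
    [0, 1, 2, 3, 4, 10],
    [0, 2, 4, 5, 6, 10, 11],
    [0, 1, 2, 3, 4, 6, 8, 9, 10, 11],
    [0, 2, 4, 5, 8, 9, 10, 11],
    [0, 1, 2, 3, 4, 10, 11],
    [0, 2, 4, 5, 6, 10],
    [0, 1, 2, 3, 4, 6, 8, 9, 10],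
    [0, 1, 2, 3, 9, 11],
    [0, 2, 5, 8],
    [0, 1, 2, 3, 6, 8],
    [0, 2, 5, 6, 9, 11],
    [0, 1, 2, 3, 9],
    [0, 2, 5, 8, 11],
    [0, 1, 2, 3, 6, 8, 11],
    [0, 2, 5, 6, 9],
    [0, 1, 2, 3, 5, 9, 10, 11],
    [0, 2, 8, 10, 11],
    [0, 1, 2, 3, 5, 6, 8, 10],
    [0, 2, 6, 9, 10],
    [0, 1, 2, 3, 5, 9, 10],
    [0, 2, 8, 10],
    [0, 1, 2, 3, 5, 6, 8, 10, 11],
    [0, 2, 6, 9, 10, 11],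
    [0, 1, 2, 3],
    [0, 2, 5, 8, 9, 11],
    [0, 1, 2, 3, 6, 8, 9, 11],
    [0, 2, 5, 6],
    [0, 1, 2, 3, 11],
    [0, 2, 5, 8, 9],
    [0, 1, 2, 3, 6, 8, 9],
    [0, 2, 5, 6, 11],
    [0, 1, 2, 3, 5, 10],
    [0, 2, 8, 9, 10],
    [0, 1, 2, 3, 5, 6, 8, 9, 10, 11],
    [0, 2, 6, 10, 11],
    [0, 1, 2, 3, 5, 10, 11],
    [0, 2, 8, 9, 10, 11],
    [0, 1, 2, 3, 5, 6, 8, 9, 10],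
    [0, 2, 6, 10],
    [0, 2, 3, 5, 9, 10, 11],
    [0, 1, 2, 8, 10, 11],
    [0, 2, 3, 5, 6, 8, 10],
    [0, 1, 2, 6, 9, 10],
    [0, 2, 3, 5, 9, 10],
    [0, 1, 2, 8, 10],
    [0, 2, 3, 5, 6, 8, 10, 11],
    [0, 1, 2, 6, 9, 10, 11],
    [0, 2, 3, 9],
    [0, 1, 2, 5, 8, 11],
    [0, 2, 3, 6, 8, 11],
    [0, 1, 2, 5, 6, 9],
    [0, 2, 3, 9, 11],
    [0, 1, 2, 5, 8],
    [0, 2, 3, 6, 8],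
    [0, 1, 2, 5, 6, 9, 11],
    [0, 2, 3, 5, 10],
    [0, 1, 2, 8, 9, 10],
    [0, 2, 3, 5, 6, 8, 9, 10, 11],
    [0, 1, 2, 6, 10, 11],
    [0, 2, 3, 5, 10, 11],
    [0, 1, 2, 8, 9, 10, 11],
    [0, 2, 3, 5, 6, 8, 9, 10],
    [0, 1, 2, 6, 10],
    [0, 2, 3, 11],
    [0, 1, 2, 5, 8, 9],
    [0, 2, 3, 6, 8, 9],
    [0, 1, 2, 5, 6, 11],
    [0, 2, 3],
    [0, 1, 2, 5, 8, 9, 11],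
    [0, 2, 3, 6, 8, 9, 11],
    [0, 1, 2, 5, 6],
    [0, 2, 4, 5, 6, 7, 8, 9],
    [0, 1, 2, 3, 4, 6, 7],
    [0, 2, 4, 5, 7],
    [0, 1, 2, 3, 4, 7, 8, 9],
    [0, 2, 4, 5, 6, 7, 8, 9, 11],
    [0, 1, 2, 3, 4, 6, 7, 11],
    [0, 2, 4, 5, 7, 11],
    [0, 1, 2, 3, 4, 7, 8, 9, 11],
    [0, 2, 4, 6, 7, 8, 9, 10, 11],
    [0, 1, 2, 3, 4, 5, 6, 7, 10],
    [0, 2, 4, 7, 10, 11],
    [0, 1, 2, 3, 4, 5, 7, 8, 9, 10],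
    [0, 2, 4, 6, 7, 8, 9, 10],
    [0, 1, 2, 3, 4, 5, 6, 7, 10, 11],
    [0, 2, 4, 7, 10],
    [0, 1, 2, 3, 4, 5, 7, 8, 9, 10, 11],
    [0, 2, 4, 5, 6, 7, 8],
    [0, 1, 2, 3, 4, 6, 7, 9],
    [0, 2, 4, 5, 7, 9],
    [0, 1, 2, 3, 4, 7, 8],
    [0, 2, 4, 5, 6, 7, 8, 11],
    [0, 1, 2, 3, 4, 6, 7, 9, 11],
    [0, 2, 4, 5, 7, 9, 11],
    [0, 1, 2, 3, 4, 7, 8, 11],
    [0, 2, 4, 6, 7, 8, 10, 11],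
    [0, 1, 2, 3, 4, 5, 6, 7, 9, 10],
    [0, 2, 4, 7, 9, 10, 11],
    [0, 1, 2, 3, 4, 5, 7, 8, 10],
    [0, 2, 4, 6, 7, 8, 10],
    [0, 1, 2, 3, 4, 5, 6, 7, 9, 10, 11],
    [0, 2, 4, 7, 9, 10],
    [0, 1, 2, 3, 4, 5, 7, 8, 10, 11],
    [0, 1, 2, 4, 5, 6, 8, 10],
    [0, 2, 3, 4, 6, 9, 10, 11],
    [0, 1, 2, 4, 5, 9, 10, 11],
    [0, 2, 3, 4, 8, 10],
    [0, 1, 2, 4, 5, 6, 8, 10, 11],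
    [0, 2, 3, 4, 6, 9, 10],
    [0, 1, 2, 4, 5, 9, 10],
    [0, 2, 3, 4, 8, 10, 11],
    [0, 1, 2, 4, 6, 8, 11],
    [0, 2, 3, 4, 5, 6, 9, 11],
    [0, 1, 2, 4, 9],
    [0, 2, 3, 4, 5, 8],
    [0, 1, 2, 4, 6, 8],
    [0, 2, 3, 4, 5, 6, 9],
    [0, 1, 2, 4, 9, 11],
    [0, 2, 3, 4, 5, 8, 11],
    [0, 1, 2, 4, 5, 6, 8, 9, 10, 11],
    [0, 2, 3, 4, 6, 10],
    [0, 1, 2, 4, 5, 10],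
    [0, 2, 3, 4, 8, 9, 10, 11],
    [0, 1, 2, 4, 5, 6, 8, 9, 10],
    [0, 2, 3, 4, 6, 10, 11],
    [0, 1, 2, 4, 5, 10, 11],
    [0, 2, 3, 4, 8, 9, 10],
    [0, 1, 2, 4, 6, 8, 9],
    [0, 2, 3, 4, 5, 6],
    [0, 1, 2, 4, 11],
    [0, 2, 3, 4, 5, 8, 9, 11],
    [0, 1, 2, 4, 6, 8, 9, 11],
    [0, 2, 3, 4, 5, 6, 11],
    [0, 1, 2, 4],
    [0, 2, 3, 4, 5, 8, 9],
    [0, 1, 2, 3, 5, 7],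
    [0, 2, 7, 8, 9, 11],
    [0, 1, 2, 3, 5, 6, 7, 8, 9],
    [0, 2, 6, 7, 11],
    [0, 1, 2, 3, 5, 7, 11],
    [0, 2, 7, 8, 9],
    [0, 1, 2, 3, 5, 6, 7, 8, 9, 11],
    [0, 2, 6, 7],
    [0, 1, 2, 3, 7, 10],
    [0, 2, 5, 7, 8, 9, 10],
    [0, 1, 2, 3, 6, 7, 8, 9, 10],
    [0, 2, 5, 6, 7, 10],
    [0, 1, 2, 3, 7, 10, 11],
    [0, 2, 5, 7, 8, 9, 10, 11],
    [0, 1, 2, 3, 6, 7, 8, 9, 10, 11],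
    [0, 2, 5, 6, 7, 10, 11],
    [0, 1, 2, 3, 5, 7, 9, 11],
    [0, 2, 7, 8],
    [0, 1, 2, 3, 5, 6, 7, 8, 11],
    [0, 2, 6, 7, 9],
    [0, 1, 2, 3, 5, 7, 9],
    [0, 2, 7, 8, 11],
    [0, 1, 2, 3, 5, 6, 7, 8],
    [0, 2, 6, 7, 9, 11],
    [0, 1, 2, 3, 7, 9, 10, 11],
    [0, 2, 5, 7, 8, 10, 11],
    [0, 1, 2, 3, 6, 7, 8, 10, 11],
    [0, 2, 5, 6, 7, 9, 10, 11],
    [0, 1, 2, 3, 7, 9, 10],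
    [0, 2, 5, 7, 8, 10],
    [0, 1, 2, 3, 6, 7, 8, 10],
    [0, 2, 5, 6, 7, 9, 10],
    [0, 2, 3, 7, 10],
    [0, 1, 2, 5, 7, 8, 9, 10],
    [0, 2, 3, 6, 7, 8, 9, 10],
    [0, 1, 2, 5, 6, 7, 10],
    [0, 2, 3, 7, 10, 11],
    [0, 1, 2, 5, 7, 8, 9, 10, 11],
    [0, 2, 3, 6, 7, 8, 9, 10, 11],
    [0, 1, 2, 5, 6, 7, 10, 11],
    [0, 2, 3, 5, 7],
    [0, 1, 2, 7, 8, 9, 11],
    [0, 2, 3, 5, 6, 7, 8, 9],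
    [0, 1, 2, 6, 7, 11],
    [0, 2, 3, 5, 7, 11],
    [0, 1, 2, 7, 8, 9],
    [0, 2, 3, 5, 6, 7, 8, 9, 11],
    [0, 1, 2, 6, 7],
    [0, 2, 3, 7, 9, 10],
    [0, 1, 2, 5, 7, 8, 10],
    [0, 2, 3, 6, 7, 8, 10],
    [0, 1, 2, 5, 6, 7, 9, 10],
    [0, 2, 3, 7, 9, 10, 11],
    [0, 1, 2, 5, 7, 8, 10, 11],
    [0, 2, 3, 6, 7, 8, 10, 11],
    [0, 1, 2, 5, 6, 7, 9, 10, 11],
    [0, 2, 3, 5, 7, 9],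
    [0, 1, 2, 7, 8, 11],
    [0, 2, 3, 5, 6, 7, 8],
    [0, 1, 2, 6, 7, 9, 11],
    [0, 2, 3, 5, 7, 9, 11],
    [0, 1, 2, 7, 8],
    [0, 2, 3, 5, 6, 7, 8, 11],
    [0, 1, 2, 6, 7, 9],
    [0, 1, 2, 4, 6, 7, 8, 9, 10, 11],
    [0, 2, 3, 4, 5, 6, 7, 10],
    [0, 1, 2, 4, 7, 10, 11],
    [0, 2, 3, 4, 5, 7, 8, 9, 10],
    [0, 1, 2, 4, 6, 7, 8, 9, 10],
    [0, 2, 3, 4, 5, 6, 7, 10, 11],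
    [0, 1, 2, 4, 7, 10],
    [0, 2, 3, 4, 5, 7, 8, 9, 10, 11],
    [0, 1, 2, 4, 5, 6, 7, 8, 9, 11],
    [0, 2, 3, 4, 6, 7, 11],
    [0, 1, 2, 4, 5, 7, 11],
    [0, 2, 3, 4, 7, 8, 9, 11],
    [0, 1, 2, 4, 5, 6, 7, 8, 9],
    [0, 2, 3, 4, 6, 7],
    [0, 1, 2, 4, 5, 7],
    [0, 2, 3, 4, 7, 8, 9],
    [0, 1, 2, 4, 6, 7, 8, 10, 11],
    [0, 2, 3, 4, 5, 6, 7, 9, 10],
    [0, 1, 2, 4, 7, 9, 10, 11],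
    [0, 2, 3, 4, 5, 7, 8, 10],
    [0, 1, 2, 4, 6, 7, 8, 10],
    [0, 2, 3, 4, 5, 6, 7, 9, 10, 11],
    [0, 1, 2, 4, 7, 9, 10],
    [0, 2, 3, 4, 5, 7, 8, 10, 11],
    [0, 1, 2, 4, 5, 6, 7, 8, 11],
    [0, 2, 3, 4, 6, 7, 9, 11],
    [0, 1, 2, 4, 5, 7, 9, 11],
    [0, 2, 3, 4, 7, 8, 11],
    [0, 1, 2, 4, 5, 6, 7, 8],
    [0, 2, 3, 4, 6, 7, 9],
    [0, 1, 2, 4, 5, 7, 9],
    [0, 2, 3, 4, 7, 8],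
    [0, 2, 4, 6, 8, 11],
    [0, 1, 2, 3, 4, 5, 6, 9, 11],
    [0, 2, 4, 9],
    [0, 1, 2, 3, 4, 5, 8],
    [0, 2, 4, 6, 8],
    [0, 1, 2, 3, 4, 5, 6, 9],
    [0, 2, 4, 9, 11],
    [0, 1, 2, 3, 4, 5, 8, 11],
    [0, 2, 4, 5, 6, 8, 10],
    [0, 1, 2, 3, 4, 6, 9, 10, 11],
    [0, 2, 4, 5, 9, 10, 11],
    [0, 1, 2, 3, 4, 8, 10],
    [0, 2, 4, 5, 6, 8, 10, 11],
    [0, 1, 2, 3, 4, 6, 9, 10],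
    [0, 2, 4, 5, 9, 10],
    [0, 1, 2, 3, 4, 8, 10, 11],
    [0, 2, 4, 6, 8, 9, 11],
    [0, 1, 2, 3, 4, 5, 6, 11],
    [0, 2, 4],
    [0, 1, 2, 3, 4, 5, 8, 9],
    [0, 2, 4, 6, 8, 9],
    [0, 1, 2, 3, 4, 5, 6],
    [0, 2, 4, 11],
    [0, 1, 2, 3, 4, 5, 8, 9, 11],
    [0, 2, 4, 5, 6, 8, 9, 10],
    [0, 1, 2, 3, 4, 6, 10, 11],
    [0, 2, 4, 5, 10, 11],
    [0, 1, 2, 3, 4, 8, 9, 10],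
    [0, 2, 4, 5, 6, 8, 9, 10, 11],
    [0, 1, 2, 3, 4, 6, 10],
    [0, 2, 4, 5, 10],
    [0, 1, 2, 3, 4, 8, 9, 10, 11],
    [0, 2, 3, 5, 6, 9, 10, 11],
    [0, 1, 2, 6, 8, 10],
    [0, 2, 3, 5, 8, 10],
    [0, 1, 2, 9, 10, 11],
    [0, 2, 3, 5, 6, 9, 10],
    [0, 1, 2, 6, 8, 10, 11],
    [0, 2, 3, 5, 8, 10, 11],
    [0, 1, 2, 9, 10],
    [0, 2, 3, 6, 9, 11],
    [0, 1, 2, 5, 6, 8, 11],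
    [0, 2, 3, 8],
    [0, 1, 2, 5, 9],
    [0, 2, 3, 6, 9],
    [0, 1, 2, 5, 6, 8],
    [0, 2, 3, 8, 11],
    [0, 1, 2, 5, 9, 11],
    [0, 2, 3, 5, 6, 10],
    [0, 1, 2, 6, 8, 9, 10, 11],
    [0, 2, 3, 5, 8, 9, 10, 11],
    [0, 1, 2, 10],
    [0, 2, 3, 5, 6, 10, 11],
    [0, 1, 2, 6, 8, 9, 10],
    [0, 2, 3, 5, 8, 9, 10],
    [0, 1, 2, 10, 11],
    [0, 2, 3, 6],
    [0, 1, 2, 5, 6, 8, 9],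
    [0, 2, 3, 8, 9, 11],
    [0, 1, 2, 5, 11],
    [0, 2, 3, 6, 11],
    [0, 1, 2, 5, 6, 8, 9, 11],
    [0, 2, 3, 8, 9],
    [0, 1, 2, 5],
    [0, 1, 2, 3, 6, 10, 11],
    [0, 2, 5, 6, 8, 9, 10],
    [0, 1, 2, 3, 8, 9, 10],
    [0, 2, 5, 10, 11],
    [0, 1, 2, 3, 6, 10],
    [0, 2, 5, 6, 8, 9, 10, 11],
    [0, 1, 2, 3, 8, 9, 10, 11],
    [0, 2, 5, 10],
    [0, 1, 2, 3, 5, 6, 11],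
    [0, 2, 6, 8, 9, 11],
    [0, 1, 2, 3, 5, 8, 9],
    [0, 2],
    [0, 1, 2, 3, 5, 6],
    [0, 2, 6, 8, 9],
    [0, 1, 2, 3, 5, 8, 9, 11],
    [0, 2, 11],
    [0, 1, 2, 3, 6, 9, 10],
    [0, 2, 5, 6, 8, 10, 11],
    [0, 1, 2, 3, 8, 10, 11],
    [0, 2, 5, 9, 10],
    [0, 1, 2, 3, 6, 9, 10, 11],
    [0, 2, 5, 6, 8, 10],
    [0, 1, 2, 3, 8, 10],
    [0, 2, 5, 9, 10, 11],
    [0, 1, 2, 3, 5, 6, 9],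
    [0, 2, 6, 8],
    [0, 1, 2, 3, 5, 8, 11],
    [0, 2, 9, 11],
    [0, 1, 2, 3, 5, 6, 9, 11],
    [0, 2, 6, 8, 11],
    [0, 1, 2, 3, 5, 8],
    [0, 2, 9],
    [0, 2, 4, 5, 7, 8, 10, 11],
    [0, 1, 2, 3, 4, 7, 9, 10, 11],
    [0, 2, 4, 5, 6, 7, 9, 10, 11],
    [0, 1, 2, 3, 4, 6, 7, 8, 10, 11],
    [0, 2, 4, 5, 7, 8, 10],
    [0, 1, 2, 3, 4, 7, 9, 10],
    [0, 2, 4, 5, 6, 7, 9, 10],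
    [0, 1, 2, 3, 4, 6, 7, 8, 10],
    [0, 2, 4, 7, 8],
    [0, 1, 2, 3, 4, 5, 7, 9, 11],
    [0, 2, 4, 6, 7, 9],
    [0, 1, 2, 3, 4, 5, 6, 7, 8, 11],
    [0, 2, 4, 7, 8, 11],
    [0, 1, 2, 3, 4, 5, 7, 9],
    [0, 2, 4, 6, 7, 9, 11],
    [0, 1, 2, 3, 4, 5, 6, 7, 8],
    [0, 2, 4, 5, 7, 8, 9, 10, 11],
    [0, 1, 2, 3, 4, 7, 10, 11],
    [0, 2, 4, 5, 6, 7, 10, 11],
    [0, 1, 2, 3, 4, 6, 7, 8, 9, 10, 11],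
    [0, 2, 4, 5, 7, 8, 9, 10],
    [0, 1, 2, 3, 4, 7, 10],
    [0, 2, 4, 5, 6, 7, 10],
    [0, 1, 2, 3, 4, 6, 7, 8, 9, 10],
    [0, 2, 4, 7, 8, 9],
    [0, 1, 2, 3, 4, 5, 7, 11],
    [0, 2, 4, 6, 7],
    [0, 1, 2, 3, 4, 5, 6, 7, 8, 9, 11],
    [0, 2, 4, 7, 8, 9, 11],
    [0, 1, 2, 3, 4, 5, 7],
    [0, 2, 4, 6, 7, 11],
    [0, 1, 2, 3, 4, 5, 6, 7, 8, 9],
    [0, 1, 2, 4, 5, 8, 10],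
    [0, 2, 3, 4, 9, 10],
    [0, 1, 2, 4, 5, 6, 9, 10, 11],
    [0, 2, 3, 4, 6, 8, 10, 11],
    [0, 1, 2, 4, 5, 8, 10, 11],
    [0, 2, 3, 4, 9, 10, 11],
    [0, 1, 2, 4, 5, 6, 9, 10],
    [0, 2, 3, 4, 6, 8, 10],
    [0, 1, 2, 4, 8],
    [0, 2, 3, 4, 5, 9, 11],
    [0, 1, 2, 4, 6, 9, 11],
    [0, 2, 3, 4, 5, 6, 8],
    [0, 1, 2, 4, 8, 11],
    [0, 2, 3, 4, 5, 9],
    [0, 1, 2, 4, 6, 9],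
    [0, 2, 3, 4, 5, 6, 8, 11],
    [0, 1, 2, 4, 5, 8, 9, 10, 11],
    [0, 2, 3, 4, 10, 11],
    [0, 1, 2, 4, 5, 6, 10],
    [0, 2, 3, 4, 6, 8, 9, 10],
    [0, 1, 2, 4, 5, 8, 9, 10],
    [0, 2, 3, 4, 10],
    [0, 1, 2, 4, 5, 6, 10, 11],
    [0, 2, 3, 4, 6, 8, 9, 10, 11],
    [0, 1, 2, 4, 8, 9, 11],
    [0, 2, 3, 4, 5],
    [0, 1, 2, 4, 6],
    [0, 2, 3, 4, 5, 6, 8, 9, 11],
    [0, 1, 2, 4, 8, 9],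
    [0, 2, 3, 4, 5, 11],
    [0, 1, 2, 4, 6, 11],
    [0, 2, 3, 4, 5, 6, 8, 9],
    [0, 1, 2, 3, 5, 6, 7, 9, 10, 11],
    [0, 2, 6, 7, 8, 10],
    [0, 1, 2, 3, 5, 7, 8, 10, 11],
    [0, 2, 7, 9, 10],
    [0, 1, 2, 3, 5, 6, 7, 9, 10],
    [0, 2, 6, 7, 8, 10, 11],
    [0, 1, 2, 3, 5, 7, 8, 10],
    [0, 2, 7, 9, 10, 11],
    [0, 1, 2, 3, 6, 7, 9, 11],
    [0, 2, 5, 6, 7, 8, 11],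
    [0, 1, 2, 3, 7, 8, 11],
    [0, 2, 5, 7, 9, 11],
    [0, 1, 2, 3, 6, 7, 9],
    [0, 2, 5, 6, 7, 8],
    [0, 1, 2, 3, 7, 8],
    [0, 2, 5, 7, 9],
    [0, 1, 2, 3, 5, 6, 7, 10],
    [0, 2, 6, 7, 8, 9, 10, 11],
    [0, 1, 2, 3, 5, 7, 8, 9, 10],
    [0, 2, 7, 10, 11],
    [0, 1, 2, 3, 5, 6, 7, 10, 11],
    [0, 2, 6, 7, 8, 9, 10],
    [0, 1, 2, 3, 5, 7, 8, 9, 10, 11],
    [0, 2, 7, 10],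
    [0, 1, 2, 3, 6, 7],
    [0, 2, 5, 6, 7, 8, 9],
    [0, 1, 2, 3, 7, 8, 9],
    [0, 2, 5, 7],
    [0, 1, 2, 3, 6, 7, 11],
    [0, 2, 5, 6, 7, 8, 9, 11],
    [0, 1, 2, 3, 7, 8, 9, 11],
    [0, 2, 5, 7, 11],
    [0, 2, 3, 6, 7, 10, 11],
    [0, 1, 2, 5, 6, 7, 8, 9, 10],
    [0, 2, 3, 7, 8, 9, 10, 11],
    [0, 1, 2, 5, 7, 10],
    [0, 2, 3, 6, 7, 10],
    [0, 1, 2, 5, 6, 7, 8, 9, 10, 11],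
    [0, 2, 3, 7, 8, 9, 10],
    [0, 1, 2, 5, 7, 10, 11],
    [0, 2, 3, 5, 6, 7],
    [0, 1, 2, 6, 7, 8, 9],
    [0, 2, 3, 5, 7, 8, 9],
    [0, 1, 2, 7],
    [0, 2, 3, 5, 6, 7, 11],
    [0, 1, 2, 6, 7, 8, 9, 11],
    [0, 2, 3, 5, 7, 8, 9, 11],
    [0, 1, 2, 7, 11],
    [0, 2, 3, 6, 7, 9, 10, 11],
    [0, 1, 2, 5, 6, 7, 8, 10],
    [0, 2, 3, 7, 8, 10, 11],
    [0, 1, 2, 5, 7, 9, 10],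
    [0, 2, 3, 6, 7, 9, 10],
    [0, 1, 2, 5, 6, 7, 8, 10, 11],
    [0, 2, 3, 7, 8, 10],
    [0, 1, 2, 5, 7, 9, 10, 11],
    [0, 2, 3, 5, 6, 7, 9],
    [0, 1, 2, 6, 7, 8],
    [0, 2, 3, 5, 7, 8],
    [0, 1, 2, 7, 9],
    [0, 2, 3, 5, 6, 7, 9, 11],
    [0, 1, 2, 6, 7, 8, 11],
    [0, 2, 3, 5, 7, 8, 11],
    [0, 1, 2, 7, 9, 11],
    [0, 1, 2, 4, 7, 8, 9, 10],
    [0, 2, 3, 4, 5, 7, 10],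
    [0, 1, 2, 4, 6, 7, 10],
    [0, 2, 3, 4, 5, 6, 7, 8, 9, 10],
    [0, 1, 2, 4, 7, 8, 9, 10, 11],
    [0, 2, 3, 4, 5, 7, 10, 11],
    [0, 1, 2, 4, 6, 7, 10, 11],
    [0, 2, 3, 4, 5, 6, 7, 8, 9, 10, 11],
    [0, 1, 2, 4, 5, 7, 8, 9, 11],
    [0, 2, 3, 4, 7],
    [0, 1, 2, 4, 5, 6, 7, 11],
    [0, 2, 3, 4, 6, 7, 8, 9],
    [0, 1, 2, 4, 5, 7, 8, 9],
    [0, 2, 3, 4, 7, 11],
    [0, 1, 2, 4, 5, 6, 7],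
    [0, 2, 3, 4, 6, 7, 8, 9, 11],
    [0, 1, 2, 4, 7, 8, 10],
    [0, 2, 3, 4, 5, 7, 9, 10],
    [0, 1, 2, 4, 6, 7, 9, 10],
    [0, 2, 3, 4, 5, 6, 7, 8, 10],
    [0, 1, 2, 4, 7, 8, 10, 11],
    [0, 2, 3, 4, 5, 7, 9, 10, 11],
    [0, 1, 2, 4, 6, 7, 9, 10, 11],
    [0, 2, 3, 4, 5, 6, 7, 8, 10, 11],
    [0, 1, 2, 4, 5, 7, 8, 11],
    [0, 2, 3, 4, 7, 9],
    [0, 1, 2, 4, 5, 6, 7, 9, 11],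
    [0, 2, 3, 4, 6, 7, 8],
    [0, 1, 2, 4, 5, 7, 8],
    [0, 2, 3, 4, 7, 9, 11],
    [0, 1, 2, 4, 5, 6, 7, 9],
    [0, 2, 3, 4, 6, 7, 8, 11],
    [0, 2, 4, 8, 9, 10, 11],
    [0, 1, 2, 3, 4, 5, 10, 11],
    [0, 2, 4, 6, 10],
    [0, 1, 2, 3, 4, 5, 6, 8, 9, 10],
    [0, 2, 4, 8, 9, 10],
    [0, 1, 2, 3, 4, 5, 10],
    [0, 2, 4, 6, 10, 11],
    [0, 1, 2, 3, 4, 5, 6, 8, 9, 10, 11],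
    [0, 2, 4, 5, 8, 9],
    [0, 1, 2, 3, 4, 11],
    [0, 2, 4, 5, 6, 11],
    [0, 1, 2, 3, 4, 6, 8, 9],
    [0, 2, 4, 5, 8, 9, 11],
    [0, 1, 2, 3, 4],
    [0, 2, 4, 5, 6],
    [0, 1, 2, 3, 4, 6, 8, 9, 11],
    [0, 2, 4, 8, 10, 11],
    [0, 1, 2, 3, 4, 5, 9, 10, 11],
    [0, 2, 4, 6, 9, 10],
    [0, 1, 2, 3, 4, 5, 6, 8, 10],
    [0, 2, 4, 8, 10],
    [0, 1, 2, 3, 4, 5, 9, 10],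
    [0, 2, 4, 6, 9, 10, 11],
    [0, 1, 2, 3, 4, 5, 6, 8, 10, 11],
    [0, 2, 4, 5, 8],
    [0, 1, 2, 3, 4, 9, 11],
    [0, 2, 4, 5, 6, 9, 11],
    [0, 1, 2, 3, 4, 6, 8],
    [0, 2, 4, 5, 8, 11],
    [0, 1, 2, 3, 4, 9],
    [0, 2, 4, 5, 6, 9],
    [0, 1, 2, 3, 4, 6, 8, 11],
    [],
    [6, 8, 9, 11],
    [1, 3, 5, 6, 9, 10],
    [1, 3, 5, 8, 10, 11],
    [11],
    [6, 8, 9],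
    [1, 3, 5, 6, 9, 10, 11],
    [1, 3, 5, 8, 10],
    [1, 9, 11],
    [1, 6, 8],
    [3, 5, 6, 10, 11],
    [3, 5, 8, 9, 10],
    [1, 9],
    [1, 6, 8, 11],
    [3, 5, 6, 10],
    [3, 5, 8, 9, 10, 11],
    [9, 11],
    [6, 8],
    [1, 3, 5, 6, 10, 11],
    [1, 3, 5, 8, 9, 10],
    [9],
    [6, 8, 11],
    [1, 3, 5, 6, 10],
    [1, 3, 5, 8, 9, 10, 11],
    [1],
    [1, 6, 8, 9, 11],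
    [3, 5, 6, 9, 10],
    [3, 5, 8, 10, 11],
    [1, 11],
    [1, 6, 8, 9],
    [3, 5, 6, 9, 10, 11],
    [3, 5, 8, 10],
    [5, 9, 10, 11],
    [5, 6, 8, 10],
    [1, 3, 6],
    [1, 3, 8, 9, 11],
    [5, 9, 10],
    [5, 6, 8, 10, 11],
    [1, 3, 6, 11],
    [1, 3, 8, 9],
    [1, 5, 10],
    [1, 5, 6, 8, 9, 10, 11],
    [3, 6, 9, 11],
    [3, 8],
    [1, 5, 10, 11],
    [1, 5, 6, 8, 9, 10],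
    [3, 6, 9],
    [3, 8, 11],
    [5, 10],
    [5, 6, 8, 9, 10, 11],
    [1, 3, 6, 9, 11],
    [1, 3, 8],
    [5, 10, 11],
    [5, 6, 8, 9, 10],
    [1, 3, 6, 9],
    [1, 3, 8, 11],
    [1, 5, 9, 10, 11],
    [1, 5, 6, 8, 10],
    [3, 6],
    [3, 8, 9, 11],
    [1, 5, 9, 10],
    [1, 5, 6, 8, 10, 11],
    [3, 6, 11],
    [3, 8, 9],
    [1, 3, 4, 5, 6, 7, 8, 9, 10, 11],
    [1, 3, 4, 5, 7, 10, 11],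
    [4, 7, 8],
    [4, 6, 7, 9],
    [1, 3, 4, 5, 6, 7, 8, 9, 10],
    [1, 3, 4, 5, 7, 10],
    [4, 7, 8, 11],
    [4, 6, 7, 9, 11],
    [3, 4, 6, 8, 9, 10],
    [3, 4, 10, 11],
    [1, 4, 5, 8],
    [1, 4, 5, 6, 9, 11],
    [3, 4, 6, 8, 9, 10, 11],
    [3, 4, 10],
    [1, 4, 5, 8, 11],
    [1, 4, 5, 6, 9],
    [1, 3, 4, 5, 6, 7, 8, 10, 11],
    [1, 3, 4, 5, 7, 9, 10, 11],
    [4, 7, 8, 9],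
    [4, 6, 7],
    [1, 3, 4, 5, 6, 7, 8, 10],
    [1, 3, 4, 5, 7, 9, 10],
    [4, 7, 8, 9, 11],
    [4, 6, 7, 11],
    [3, 4, 6, 8, 10, 11],
    [3, 4, 9, 10],
    [1, 4, 5, 8, 9, 11],
    [1, 4, 5, 6],
    [3, 4, 6, 8, 10],
    [3, 4, 9, 10, 11],
    [1, 4, 5, 8, 9],
    [1, 4, 5, 6, 11],
    [1, 3, 4, 6, 7, 8],
    [1, 3, 4, 7, 9],
    [4, 5, 7, 8, 9, 10],
    [4, 5, 6, 7, 10],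
    [1, 3, 4, 6, 7, 8, 11],
    [1, 3, 4, 7, 9, 11],
    [4, 5, 7, 8, 9, 10, 11],
    [4, 5, 6, 7, 10, 11],
    [3, 4, 5, 6, 8, 11],
    [3, 4, 5, 9],
    [1, 4, 8, 9, 10],
    [1, 4, 6, 10, 11],
    [3, 4, 5, 6, 8],
    [3, 4, 5, 9, 11],
    [1, 4, 8, 9, 10, 11],
    [1, 4, 6, 10],
    [1, 3, 4, 6, 7, 8, 9],
    [1, 3, 4, 7],
    [4, 5, 7, 8, 10],
    [4, 5, 6, 7, 9, 10],
    [1, 3, 4, 6, 7, 8, 9, 11],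
    [1, 3, 4, 7, 11],
    [4, 5, 7, 8, 10, 11],
    [4, 5, 6, 7, 9, 10, 11],
    [3, 4, 5, 6, 8, 9],
    [3, 4, 5, 11],
    [1, 4, 8, 10, 11],
    [1, 4, 6, 9, 10],
    [3, 4, 5, 6, 8, 9, 11],
    [3, 4, 5],
    [1, 4, 8, 10],
    [1, 4, 6, 9, 10, 11],
    [5, 7, 9, 11],
    [5, 6, 7, 8, 11],
    [1, 3, 6, 7, 10],
    [1, 3, 7, 8, 9, 10],
    [5, 7, 9],
    [5, 6, 7, 8],
    [1, 3, 6, 7, 10, 11],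
    [1, 3, 7, 8, 9, 10, 11],
    [1, 5, 7],
    [1, 5, 6, 7, 8, 9],
    [3, 6, 7, 9, 10, 11],
    [3, 7, 8, 10, 11],
    [1, 5, 7, 11],
    [1, 5, 6, 7, 8, 9, 11],
    [3, 6, 7, 9, 10],
    [3, 7, 8, 10],
    [5, 7],
    [5, 6, 7, 8, 9],
    [1, 3, 6, 7, 9, 10, 11],
    [1, 3, 7, 8, 10, 11],
    [5, 7, 11],
    [5, 6, 7, 8, 9, 11],
    [1, 3, 6, 7, 9, 10],
    [1, 3, 7, 8, 10],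
    [1, 5, 7, 9],
    [1, 5, 6, 7, 8],
    [3, 6, 7, 10, 11],
    [3, 7, 8, 9, 10, 11],
    [1, 5, 7, 9, 11],
    [1, 5, 6, 7, 8, 11],
    [3, 6, 7, 10],
    [3, 7, 8, 9, 10],
    [7, 10],
    [6, 7, 8, 9, 10],
    [1, 3, 5, 6, 7, 9],
    [1, 3, 5, 7, 8],
    [7, 10, 11],
    [6, 7, 8, 9, 10, 11],
    [1, 3, 5, 6, 7, 9, 11],
    [1, 3, 5, 7, 8, 11],
    [1, 7, 9, 10, 11],
    [1, 6, 7, 8, 10, 11],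
    [3, 5, 6, 7, 11],
    [3, 5, 7, 8, 9, 11],
    [1, 7, 9, 10],
    [1, 6, 7, 8, 10],
    [3, 5, 6, 7],
    [3, 5, 7, 8, 9],
    [7, 9, 10, 11],
    [6, 7, 8, 10, 11],
    [1, 3, 5, 6, 7, 11],
    [1, 3, 5, 7, 8, 9, 11],
    [7, 9, 10],
    [6, 7, 8, 10],
    [1, 3, 5, 6, 7],
    [1, 3, 5, 7, 8, 9],
    [1, 7, 10, 11],
    [1, 6, 7, 8, 9, 10, 11],
    [3, 5, 6, 7, 9, 11],
    [3, 5, 7, 8, 11],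
    [1, 7, 10],
    [1, 6, 7, 8, 9, 10],
    [3, 5, 6, 7, 9],
    [3, 5, 7, 8],
    [1, 3, 4, 6, 8, 10],
    [1, 3, 4, 9, 10, 11],
    [4, 5, 8, 9],
    [4, 5, 6, 11],
    [1, 3, 4, 6, 8, 10, 11],
    [1, 3, 4, 9, 10],
    [4, 5, 8, 9, 11],
    [4, 5, 6],
    [3, 4, 5, 6, 7, 8, 10, 11],
    [3, 4, 5, 7, 9, 10, 11],
    [1, 4, 7, 8, 9],
    [1, 4, 6, 7],
    [3, 4, 5, 6, 7, 8, 10],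
    [3, 4, 5, 7, 9, 10],
    [1, 4, 7, 8, 9, 11],
    [1, 4, 6, 7, 11],
    [1, 3, 4, 6, 8, 9, 10],
    [1, 3, 4, 10, 11],
    [4, 5, 8],
    [4, 5, 6, 9, 11],
    [1, 3, 4, 6, 8, 9, 10, 11],
    [1, 3, 4, 10],
    [4, 5, 8, 11],
    [4, 5, 6, 9],
    [3, 4, 5, 6, 7, 8, 9, 10, 11],
    [3, 4, 5, 7, 10, 11],
    [1, 4, 7, 8],
    [1, 4, 6, 7, 9],
    [3, 4, 5, 6, 7, 8, 9, 10],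
    [3, 4, 5, 7, 10],
    [1, 4, 7, 8, 11],
    [1, 4, 6, 7, 9, 11],
    [1, 3, 4, 5, 6, 8, 9, 11],
    [1, 3, 4, 5],
    [4, 8, 10],
    [4, 6, 9, 10, 11],
    [1, 3, 4, 5, 6, 8, 9],
    [1, 3, 4, 5, 11],
    [4, 8, 10, 11],
    [4, 6, 9, 10],
    [3, 4, 6, 7, 8, 9],
    [3, 4, 7],
    [1, 4, 5, 7, 8, 10],
    [1, 4, 5, 6, 7, 9, 10],
    [3, 4, 6, 7, 8, 9, 11],
    [3, 4, 7, 11],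
    [1, 4, 5, 7, 8, 10, 11],
    [1, 4, 5, 6, 7, 9, 10, 11],
    [1, 3, 4, 5, 6, 8, 11],
    [1, 3, 4, 5, 9],
    [4, 8, 9, 10],
    [4, 6, 10, 11],
    [1, 3, 4, 5, 6, 8],
    [1, 3, 4, 5, 9, 11],
    [4, 8, 9, 10, 11],
    [4, 6, 10],
    [3, 4, 6, 7, 8],
    [3, 4, 7, 9],
    [1, 4, 5, 7, 8, 9, 10],
    [1, 4, 5, 6, 7, 10],
    [3, 4, 6, 7, 8, 11],
    [3, 4, 7, 9, 11],
    [1, 4, 5, 7, 8, 9, 10, 11],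
    [1, 4, 5, 6, 7, 10, 11],
    [6, 9, 10],
    [8, 10, 11],
    [1, 3, 5],
    [1, 3, 5, 6, 8, 9, 11],
    [6, 9, 10, 11],
    [8, 10],
    [1, 3, 5, 11],
    [1, 3, 5, 6, 8, 9],
    [1, 6, 9, 11],
    [1, 8],
    [3, 5, 10],
    [3, 5, 6, 8, 9, 10, 11],
    [1, 6, 9],
    [1, 8, 11],
    [3, 5, 10, 11],
    [3, 5, 6, 8, 9, 10],
    [6, 10, 11],
    [8, 9, 10],
    [1, 3, 5, 9, 11],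
    [1, 3, 5, 6, 8],
    [6, 10],
    [8, 9, 10, 11],
    [1, 3, 5, 9],
    [1, 3, 5, 6, 8, 11],
    [1, 6],
    [1, 8, 9, 11],
    [3, 5, 9, 10, 11],
    [3, 5, 6, 8, 10],
    [1, 6, 11],
    [1, 8, 9],
    [3, 5, 9, 10],
    [3, 5, 6, 8, 10, 11],
    [5, 6, 11],
    [5, 8, 9],
    [1, 3, 9, 10],
    [1, 3, 6, 8, 10, 11],
    [5, 6],
    [5, 8, 9, 11],
    [1, 3, 9, 10, 11],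
    [1, 3, 6, 8, 10],
    [1, 5, 6, 10, 11],
    [1, 5, 8, 9, 10],
    [3, 9, 11],
    [3, 6, 8],
    [1, 5, 6, 10],
    [1, 5, 8, 9, 10, 11],
    [3, 9],
    [3, 6, 8, 11],
    [5, 6, 9],
    [5, 8, 11],
    [1, 3, 10, 11],
    [1, 3, 6, 8, 9, 10],
    [5, 6, 9, 11],
    [5, 8],
    [1, 3, 10],
    [1, 3, 6, 8, 9, 10, 11],
    [1, 5, 6, 9, 10],
    [1, 5, 8, 10, 11],
    [3],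
    [3, 6, 8, 9, 11],
    [1, 5, 6, 9, 10, 11],
    [1, 5, 8, 10],
    [3, 11],
    [3, 6, 8, 9],
    [1, 3, 4, 5, 7, 8],
    [1, 3, 4, 5, 6, 7, 9],
    [4, 6, 7, 8, 9, 10, 11],
    [4, 7, 10, 11],
    [1, 3, 4, 5, 7, 8, 11],
    [1, 3, 4, 5, 6, 7, 9, 11],
    [4, 6, 7, 8, 9, 10],
    [4, 7, 10],
    [3, 4, 8, 9, 10],
    [3, 4, 6, 10, 11],
    [1, 4, 5, 6, 8, 11],
    [1, 4, 5, 9],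
    [3, 4, 8, 9, 10, 11],
    [3, 4, 6, 10],
    [1, 4, 5, 6, 8],
    [1, 4, 5, 9, 11],
    [1, 3, 4, 5, 7, 8, 9],
    [1, 3, 4, 5, 6, 7],
    [4, 6, 7, 8, 10, 11],
    [4, 7, 9, 10, 11],
    [1, 3, 4, 5, 7, 8, 9, 11],
    [1, 3, 4, 5, 6, 7, 11],
    [4, 6, 7, 8, 10],
    [4, 7, 9, 10],
    [3, 4, 8, 10, 11],
    [3, 4, 6, 9, 10],
    [1, 4, 5, 6, 8, 9],
    [1, 4, 5, 11],
    [3, 4, 8, 10],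
    [3, 4, 6, 9, 10, 11],
    [1, 4, 5, 6, 8, 9, 11],
    [1, 4, 5],
    [1, 3, 4, 7, 8, 9, 10, 11],
    [1, 3, 4, 6, 7, 10, 11],
    [4, 5, 6, 7, 8, 11],
    [4, 5, 7, 9, 11],
    [1, 3, 4, 7, 8, 9, 10],
    [1, 3, 4, 6, 7, 10],
    [4, 5, 6, 7, 8],
    [4, 5, 7, 9],
    [3, 4, 5, 8],
    [3, 4, 5, 6, 9, 11],
    [1, 4, 6, 8, 9, 10],
    [1, 4, 10, 11],
    [3, 4, 5, 8, 11],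
    [3, 4, 5, 6, 9],
    [1, 4, 6, 8, 9, 10, 11],
    [1, 4, 10],
    [1, 3, 4, 7, 8, 10, 11],
    [1, 3, 4, 6, 7, 9, 10, 11],
    [4, 5, 6, 7, 8, 9, 11],
    [4, 5, 7, 11],
    [1, 3, 4, 7, 8, 10],
    [1, 3, 4, 6, 7, 9, 10],
    [4, 5, 6, 7, 8, 9],
    [4, 5, 7],
    [3, 4, 5, 8, 9, 11],
    [3, 4, 5, 6],
    [1, 4, 6, 8, 10, 11],
    [1, 4, 9, 10],
    [3, 4, 5, 8, 9],
    [3, 4, 5, 6, 11],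
    [1, 4, 6, 8, 10],
    [1, 4, 9, 10, 11],
    [5, 6, 7, 10],
    [5, 7, 8, 9, 10],
    [1, 3, 7, 9, 11],
    [1, 3, 6, 7, 8, 11],
    [5, 6, 7, 10, 11],
    [5, 7, 8, 9, 10, 11],
    [1, 3, 7, 9],
    [1, 3, 6, 7, 8],
    [1, 5, 6, 7, 11],
    [1, 5, 7, 8, 9, 11],
    [3, 7, 9, 10, 11],
    [3, 6, 7, 8, 10, 11],
    [1, 5, 6, 7],
    [1, 5, 7, 8, 9],
    [3, 7, 9, 10],
    [3, 6, 7, 8, 10],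
    [5, 6, 7, 9, 10, 11],
    [5, 7, 8, 10, 11],
    [1, 3, 7],
    [1, 3, 6, 7, 8, 9],
    [5, 6, 7, 9, 10],
    [5, 7, 8, 10],
    [1, 3, 7, 11],
    [1, 3, 6, 7, 8, 9, 11],
    [1, 5, 6, 7, 9, 11],
    [1, 5, 7, 8, 11],
    [3, 7, 10, 11],
    [3, 6, 7, 8, 9, 10, 11],
    [1, 5, 6, 7, 9],
    [1, 5, 7, 8],
    [3, 7, 10],
    [3, 6, 7, 8, 9, 10],
    [6, 7, 9, 11],
    [7, 8, 11],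
    [1, 3, 5, 7, 10, 11],
    [1, 3, 5, 6, 7, 8, 9, 10, 11],
    [6, 7, 9],
    [7, 8],
    [1, 3, 5, 7, 10],
    [1, 3, 5, 6, 7, 8, 9, 10],
    [1, 6, 7, 9, 10, 11],
    [1, 7, 8, 10, 11],
    [3, 5, 7],
    [3, 5, 6, 7, 8, 9],
    [1, 6, 7, 9, 10],
    [1, 7, 8, 10],
    [3, 5, 7, 11],
    [3, 5, 6, 7, 8, 9, 11],
    [6, 7],
    [7, 8, 9],
    [1, 3, 5, 7, 9, 10],
    [1, 3, 5, 6, 7, 8, 10],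
    [6, 7, 11],
    [7, 8, 9, 11],
    [1, 3, 5, 7, 9, 10, 11],
    [1, 3, 5, 6, 7, 8, 10, 11],
    [1, 6, 7, 10, 11],
    [1, 7, 8, 9, 10, 11],
    [3, 5, 7, 9],
    [3, 5, 6, 7, 8],
    [1, 6, 7, 10],
    [1, 7, 8, 9, 10],
    [3, 5, 7, 9, 11],
    [3, 5, 6, 7, 8, 11],
    [1, 3, 4, 8, 9],
    [1, 3, 4, 6, 11],
    [4, 5, 6, 8, 10],
    [4, 5, 9, 10, 11],
    [1, 3, 4, 8, 9, 11],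
    [1, 3, 4, 6],
    [4, 5, 6, 8, 10, 11],
    [4, 5, 9, 10],
    [3, 4, 5, 7, 8, 10],
    [3, 4, 5, 6, 7, 9, 10],
    [1, 4, 6, 7, 8, 9],
    [1, 4, 7],
    [3, 4, 5, 7, 8, 10, 11],
    [3, 4, 5, 6, 7, 9, 10, 11],
    [1, 4, 6, 7, 8, 9, 11],
    [1, 4, 7, 11],
    [1, 3, 4, 8],
    [1, 3, 4, 6, 9, 11],
    [4, 5, 6, 8, 9, 10],
    [4, 5, 10, 11],
    [1, 3, 4, 8, 11],
    [1, 3, 4, 6, 9],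
    [4, 5, 6, 8, 9, 10, 11],
    [4, 5, 10],
    [3, 4, 5, 7, 8, 9, 10],
    [3, 4, 5, 6, 7, 10],
    [1, 4, 6, 7, 8],
    [1, 4, 7, 9],
    [3, 4, 5, 7, 8, 9, 10, 11],
    [3, 4, 5, 6, 7, 10, 11],
    [1, 4, 6, 7, 8, 11],
    [1, 4, 7, 9, 11],
    [1, 3, 4, 5, 8, 10, 11],
    [1, 3, 4, 5, 6, 9, 10],
    [4, 6, 8, 9],
    [4, 11],
    [1, 3, 4, 5, 8, 10],
    [1, 3, 4, 5, 6, 9, 10, 11],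
    [4, 6, 8, 9, 11],
    [4],
    [3, 4, 7, 8, 9],
    [3, 4, 6, 7],
    [1, 4, 5, 6, 7, 8, 10, 11],
    [1, 4, 5, 7, 9, 10, 11],
    [3, 4, 7, 8, 9, 11],
    [3, 4, 6, 7, 11],
    [1, 4, 5, 6, 7, 8, 10],
    [1, 4, 5, 7, 9, 10],
    [1, 3, 4, 5, 8, 9, 10, 11],
    [1, 3, 4, 5, 6, 10],
    [4, 6, 8],
    [4, 9, 11],
    [1, 3, 4, 5, 8, 9, 10],
    [1, 3, 4, 5, 6, 10, 11],
    [4, 6, 8, 11],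
    [4, 9],
    [3, 4, 7, 8],
    [3, 4, 6, 7, 9],
    [1, 4, 5, 6, 7, 8, 9, 10, 11],
    [1, 4, 5, 7, 10, 11],
    [3, 4, 7, 8, 11],
    [3, 4, 6, 7, 9, 11],
    [1, 4, 5, 6, 7, 8, 9, 10],
    [1, 4, 5, 7, 10],
    [9, 10],
    [6, 8, 10, 11],
    [1, 3, 5, 6, 11],
    [1, 3, 5, 8, 9],
    [9, 10, 11],
    [6, 8, 10],
    [1, 3, 5, 6],
    [1, 3, 5, 8, 9, 11],
    [1, 10, 11],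
    [1, 6, 8, 9, 10],
    [3, 5, 6, 9],
    [3, 5, 8, 11],
    [1, 10],
    [1, 6, 8, 9, 10, 11],
    [3, 5, 6, 9, 11],
    [3, 5, 8],
    [10, 11],
    [6, 8, 9, 10],
    [1, 3, 5, 6, 9],
    [1, 3, 5, 8, 11],
    [10],
    [6, 8, 9, 10, 11],
    [1, 3, 5, 6, 9, 11],
    [1, 3, 5, 8],
    [1, 9, 10],
    [1, 6, 8, 10, 11],
    [3, 5, 6, 11],
    [3, 5, 8, 9],
    [1, 9, 10, 11],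
    [1, 6, 8, 10],
    [3, 5, 6],
    [3, 5, 8, 9, 11],
    [5, 11],
    [5, 6, 8, 9],
    [1, 3, 6, 9, 10, 11],
    [1, 3, 8, 10],
    [5],
    [5, 6, 8, 9, 11],
    [1, 3, 6, 9, 10],
    [1, 3, 8, 10, 11],
    [1, 5, 9, 11],
    [1, 5, 6, 8],
    [3, 6, 10, 11],
    [3, 8, 9, 10],
    [1, 5, 9],
    [1, 5, 6, 8, 11],
    [3, 6, 10],
    [3, 8, 9, 10, 11],
    [5, 9],
    [5, 6, 8, 11],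
    [1, 3, 6, 10],
    [1, 3, 8, 9, 10, 11],
    [5, 9, 11],
    [5, 6, 8],
    [1, 3, 6, 10, 11],
    [1, 3, 8, 9, 10],
    [1, 5],
    [1, 5, 6, 8, 9, 11],
    [3, 6, 9, 10],
    [3, 8, 10, 11],
    [1, 5, 11],
    [1, 5, 6, 8, 9],
    [3, 6, 9, 10, 11],
    [3, 8, 10],
    [1, 3, 4, 5, 6, 7, 8, 11],
    [1, 3, 4, 5, 7, 9, 11],
    [4, 7, 8, 9, 10, 11],
    [4, 6, 7, 10, 11],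
    [1, 3, 4, 5, 6, 7, 8],
    [1, 3, 4, 5, 7, 9],
    [4, 7, 8, 9, 10],
    [4, 6, 7, 10],
    [3, 4, 6, 8],
    [3, 4, 9, 11],
    [1, 4, 5, 8, 9, 10, 11],
    [1, 4, 5, 6, 10],
    [3, 4, 6, 8, 11],
    [3, 4, 9],
    [1, 4, 5, 8, 9, 10],
    [1, 4, 5, 6, 10, 11],
    [1, 3, 4, 5, 6, 7, 8, 9, 11],
    [1, 3, 4, 5, 7, 11],
    [4, 7, 8, 10, 11],
    [4, 6, 7, 9, 10, 11],
    [1, 3, 4, 5, 6, 7, 8, 9],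
    [1, 3, 4, 5, 7],
    [4, 7, 8, 10],
    [4, 6, 7, 9, 10],
    [3, 4, 6, 8, 9, 11],
    [3, 4],
    [1, 4, 5, 8, 10],
    [1, 4, 5, 6, 9, 10, 11],
    [3, 4, 6, 8, 9],
    [3, 4, 11],
    [1, 4, 5, 8, 10, 11],
    [1, 4, 5, 6, 9, 10],
    [1, 3, 4, 6, 7, 8, 9, 10],
    [1, 3, 4, 7, 10],
    [4, 5, 7, 8, 11],
    [4, 5, 6, 7, 9, 11],
    [1, 3, 4, 6, 7, 8, 9, 10, 11],
    [1, 3, 4, 7, 10, 11],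
    [4, 5, 7, 8],
    [4, 5, 6, 7, 9],
    [3, 4, 5, 6, 8, 9, 10],
    [3, 4, 5, 10, 11],
    [1, 4, 8],
    [1, 4, 6, 9, 11],
    [3, 4, 5, 6, 8, 9, 10, 11],
    [3, 4, 5, 10],
    [1, 4, 8, 11],
    [1, 4, 6, 9],
    [1, 3, 4, 6, 7, 8, 10],
    [1, 3, 4, 7, 9, 10],
    [4, 5, 7, 8, 9, 11],
    [4, 5, 6, 7, 11],
    [1, 3, 4, 6, 7, 8, 10, 11],
    [1, 3, 4, 7, 9, 10, 11],
    [4, 5, 7, 8, 9],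
    [4, 5, 6, 7],
    [3, 4, 5, 6, 8, 10, 11],
    [3, 4, 5, 9, 10],
    [1, 4, 8, 9, 11],
    [1, 4, 6],
    [3, 4, 5, 6, 8, 10],
    [3, 4, 5, 9, 10, 11],
    [1, 4, 8, 9],
    [1, 4, 6, 11],
    [5, 7, 10, 11],
    [5, 6, 7, 8, 9, 10, 11],
    [1, 3, 6, 7, 9, 11],
    [1, 3, 7, 8, 11],
    [5, 7, 10],
    [5, 6, 7, 8, 9, 10],
    [1, 3, 6, 7, 9],
    [1, 3, 7, 8],
    [1, 5, 7, 9, 10],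
    [1, 5, 6, 7, 8, 10],
    [3, 6, 7],
    [3, 7, 8, 9],
    [1, 5, 7, 9, 10, 11],
    [1, 5, 6, 7, 8, 10, 11],
    [3, 6, 7, 11],
    [3, 7, 8, 9, 11],
    [5, 7, 9, 10],
    [5, 6, 7, 8, 10],
    [1, 3, 6, 7],
    [1, 3, 7, 8, 9],
    [5, 7, 9, 10, 11],
    [5, 6, 7, 8, 10, 11],
    [1, 3, 6, 7, 11],
    [1, 3, 7, 8, 9, 11],
    [1, 5, 7, 10],
    [1, 5, 6, 7, 8, 9, 10],
    [3, 6, 7, 9],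
    [3, 7, 8],
    [1, 5, 7, 10, 11],
    [1, 5, 6, 7, 8, 9, 10, 11],
    [3, 6, 7, 9, 11],
    [3, 7, 8, 11],
    [7, 9],
    [6, 7, 8],
    [1, 3, 5, 6, 7, 10, 11],
    [1, 3, 5, 7, 8, 9, 10, 11],
    [7, 9, 11],
    [6, 7, 8, 11],
    [1, 3, 5, 6, 7, 10],
    [1, 3, 5, 7, 8, 9, 10],
    [1, 7],
    [1, 6, 7, 8, 9],
    [3, 5, 6, 7, 9, 10, 11],
    [3, 5, 7, 8, 10, 11],
    [1, 7, 11],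
    [1, 6, 7, 8, 9, 11],
    [3, 5, 6, 7, 9, 10],
    [3, 5, 7, 8, 10],
    [7, 11],
    [6, 7, 8, 9, 11],
    [1, 3, 5, 6, 7, 9, 10],
    [1, 3, 5, 7, 8, 10],
    [7],
    [6, 7, 8, 9],
    [1, 3, 5, 6, 7, 9, 10, 11],
    [1, 3, 5, 7, 8, 10, 11],
    [1, 7, 9],
    [1, 6, 7, 8],
    [3, 5, 6, 7, 10, 11],
    [3, 5, 7, 8, 9, 10, 11],
    [1, 7, 9, 11],
    [1, 6, 7, 8, 11],
    [3, 5, 6, 7, 10],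
    [3, 5, 7, 8, 9, 10],
    [1, 3, 4, 6, 8, 9],
    [1, 3, 4, 11],
    [4, 5, 8, 10, 11],
    [4, 5, 6, 9, 10],
    [1, 3, 4, 6, 8, 9, 11],
    [1, 3, 4],
    [4, 5, 8, 10],
    [4, 5, 6, 9, 10, 11],
    [3, 4, 5, 6, 7, 8, 9, 11],
    [3, 4, 5, 7, 11],
    [1, 4, 7, 8, 10, 11],
    [1, 4, 6, 7, 9, 10, 11],
    [3, 4, 5, 6, 7, 8, 9],
    [3, 4, 5, 7],
    [1, 4, 7, 8, 10],
    [1, 4, 6, 7, 9, 10],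
    [1, 3, 4, 6, 8],
    [1, 3, 4, 9, 11],
    [4, 5, 8, 9, 10, 11],
    [4, 5, 6, 10],
    [1, 3, 4, 6, 8, 11],
    [1, 3, 4, 9],
    [4, 5, 8, 9, 10],
    [4, 5, 6, 10, 11],
    [3, 4, 5, 6, 7, 8, 11],
    [3, 4, 5, 7, 9, 11],
    [1, 4, 7, 8, 9, 10, 11],
    [1, 4, 6, 7, 10, 11],
    [3, 4, 5, 6, 7, 8],
    [3, 4, 5, 7, 9],
    [1, 4, 7, 8, 9, 10],
    [1, 4, 6, 7, 10],
    [1, 3, 4, 5, 6, 8, 10, 11],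
    [1, 3, 4, 5, 9, 10],
    [4, 8, 9, 11],
    [4, 6],
    [1, 3, 4, 5, 6, 8, 10],
    [1, 3, 4, 5, 9, 10, 11],
    [4, 8, 9],
    [4, 6, 11],
    [3, 4, 6, 7, 8, 10, 11],
    [3, 4, 7, 9, 10, 11],
    [1, 4, 5, 7, 8, 9],
    [1, 4, 5, 6, 7],
    [3, 4, 6, 7, 8, 10],
    [3, 4, 7, 9, 10],
    [1, 4, 5, 7, 8, 9, 11],
    [1, 4, 5, 6, 7, 11],
    [1, 3, 4, 5, 6, 8, 9, 10, 11],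
    [1, 3, 4, 5, 10],
    [4, 8, 11],
    [4, 6, 9],
    [1, 3, 4, 5, 6, 8, 9, 10],
    [1, 3, 4, 5, 10, 11],
    [4, 8],
    [4, 6, 9, 11],
    [3, 4, 6, 7, 8, 9, 10, 11],
    [3, 4, 7, 10, 11],
    [1, 4, 5, 7, 8],
    [1, 4, 5, 6, 7, 9],
    [3, 4, 6, 7, 8, 9, 10],
    [3, 4, 7, 10],
    [1, 4, 5, 7, 8, 11],
    [1, 4, 5, 6, 7, 9, 11],
    [6],
    [8, 9, 11],
    [1, 3, 5, 9, 10, 11],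
    [1, 3, 5, 6, 8, 10],
    [6, 11],
    [8, 9],
    [1, 3, 5, 9, 10],
    [1, 3, 5, 6, 8, 10, 11],
    [1, 6, 10, 11],
    [1, 8, 9, 10],
    [3, 5, 9, 11],
    [3, 5, 6, 8],
    [1, 6, 10],
    [1, 8, 9, 10, 11],
    [3, 5, 9],
    [3, 5, 6, 8, 11],
    [6, 9, 11],
    [8],
    [1, 3, 5, 10],
    [1, 3, 5, 6, 8, 9, 10, 11],
    [6, 9],
    [8, 11],
    [1, 3, 5, 10, 11],
    [1, 3, 5, 6, 8, 9, 10],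
    [1, 6, 9, 10],
    [1, 8, 10, 11],
    [3, 5],
    [3, 5, 6, 8, 9, 11],
    [1, 6, 9, 10, 11],
    [1, 8, 10],
    [3, 5, 11],
    [3, 5, 6, 8, 9],
    [5, 6, 9, 10, 11],
    [5, 8, 10],
    [1, 3, 11],
    [1, 3, 6, 8, 9],
    [5, 6, 9, 10],
    [5, 8, 10, 11],
    [1, 3],
    [1, 3, 6, 8, 9, 11],
    [1, 5, 6, 9],
    [1, 5, 8, 11],
    [3, 10, 11],
    [3, 6, 8, 9, 10],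
    [1, 5, 6, 9, 11],
    [1, 5, 8],
    [3, 10],
    [3, 6, 8, 9, 10, 11],
    [5, 6, 10],
    [5, 8, 9, 10, 11],
    [1, 3, 9],
    [1, 3, 6, 8, 11],
    [5, 6, 10, 11],
    [5, 8, 9, 10],
    [1, 3, 9, 11],
    [1, 3, 6, 8],
    [1, 5, 6, 11],
    [1, 5, 8, 9],
    [3, 9, 10],
    [3, 6, 8, 10, 11],
    [1, 5, 6],
    [1, 5, 8, 9, 11],
    [3, 9, 10, 11],
    [3, 6, 8, 10],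
    [1, 3, 4, 5, 7, 8, 9, 10],
    [1, 3, 4, 5, 6, 7, 10],
    [4, 6, 7, 8],
    [4, 7, 9],
    [1, 3, 4, 5, 7, 8, 9, 10, 11],
    [1, 3, 4, 5, 6, 7, 10, 11],
    [4, 6, 7, 8, 11],
    [4, 7, 9, 11],
    [3, 4, 8],
    [3, 4, 6, 9, 11],
    [1, 4, 5, 6, 8, 9, 10],
    [1, 4, 5, 10, 11],
    [3, 4, 8, 11],
    [3, 4, 6, 9],
    [1, 4, 5, 6, 8, 9, 10, 11],
    [1, 4, 5, 10],
    [1, 3, 4, 5, 7, 8, 10],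
    [1, 3, 4, 5, 6, 7, 9, 10],
    [4, 6, 7, 8, 9],
    [4, 7],
    [1, 3, 4, 5, 7, 8, 10, 11],
    [1, 3, 4, 5, 6, 7, 9, 10, 11],
    [4, 6, 7, 8, 9, 11],
    [4, 7, 11],
    [3, 4, 8, 9, 11],
    [3, 4, 6],
    [1, 4, 5, 6, 8, 10, 11],
    [1, 4, 5, 9, 10],
    [3, 4, 8, 9],
    [3, 4, 6, 11],
    [1, 4, 5, 6, 8, 10],
    [1, 4, 5, 9, 10, 11],
    [1, 3, 4, 7, 8, 11],
    [1, 3, 4, 6, 7, 9, 11],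
    [4, 5, 6, 7, 8, 9, 10],
    [4, 5, 7, 10],
    [1, 3, 4, 7, 8],
    [1, 3, 4, 6, 7, 9],
    [4, 5, 6, 7, 8, 9, 10, 11],
    [4, 5, 7, 10, 11],
    [3, 4, 5, 8, 9, 10, 11],
    [3, 4, 5, 6, 10],
    [1, 4, 6, 8],
    [1, 4, 9, 11],
    [3, 4, 5, 8, 9, 10],
    [3, 4, 5, 6, 10, 11],
    [1, 4, 6, 8, 11],
    [1, 4, 9],
    [1, 3, 4, 7, 8, 9, 11],
    [1, 3, 4, 6, 7, 11],
    [4, 5, 6, 7, 8, 10],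
    [4, 5, 7, 9, 10],
    [1, 3, 4, 7, 8, 9],
    [1, 3, 4, 6, 7],
    [4, 5, 6, 7, 8, 10, 11],
    [4, 5, 7, 9, 10, 11],
    [3, 4, 5, 8, 10],
    [3, 4, 5, 6, 9, 10, 11],
    [1, 4, 6, 8, 9, 11],
    [1, 4],
    [3, 4, 5, 8, 10, 11],
    [3, 4, 5, 6, 9, 10],
    [1, 4, 6, 8, 9],
    [1, 4, 11],
    [5, 6, 7, 9],
    [5, 7, 8],
    [1, 3, 7, 10],
    [1, 3, 6, 7, 8, 9, 10],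
    [5, 6, 7, 9, 11],
    [5, 7, 8, 11],
    [1, 3, 7, 10, 11],
    [1, 3, 6, 7, 8, 9, 10, 11],
    [1, 5, 6, 7, 9, 10, 11],
    [1, 5, 7, 8, 10, 11],
    [3, 7],
    [3, 6, 7, 8, 9],
    [1, 5, 6, 7, 9, 10],
    [1, 5, 7, 8, 10],
    [3, 7, 11],
    [3, 6, 7, 8, 9, 11],
    [5, 6, 7, 11],
    [5, 7, 8, 9, 11],
    [1, 3, 7, 9, 10, 11],
    [1, 3, 6, 7, 8, 10, 11],
    [5, 6, 7],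
    [5, 7, 8, 9],
    [1, 3, 7, 9, 10],
    [1, 3, 6, 7, 8, 10],
    [1, 5, 6, 7, 10, 11],
    [1, 5, 7, 8, 9, 10, 11],
    [3, 7, 9],
    [3, 6, 7, 8],
    [1, 5, 6, 7, 10],
    [1, 5, 7, 8, 9, 10],
    [3, 7, 9, 11],
    [3, 6, 7, 8, 11],
    [6, 7, 10, 11],
    [7, 8, 9, 10, 11],
    [1, 3, 5, 7, 9],
    [1, 3, 5, 6, 7, 8],
    [6, 7, 10],
    [7, 8, 9, 10],
    [1, 3, 5, 7, 9, 11],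
    [1, 3, 5, 6, 7, 8, 11],
    [1, 6, 7],
    [1, 7, 8, 9],
    [3, 5, 7, 9, 10],
    [3, 5, 6, 7, 8, 10],
    [1, 6, 7, 11],
    [1, 7, 8, 9, 11],
    [3, 5, 7, 9, 10, 11],
    [3, 5, 6, 7, 8, 10, 11],
    [6, 7, 9, 10],
    [7, 8, 10],
    [1, 3, 5, 7, 11],
    [1, 3, 5, 6, 7, 8, 9, 11],
    [6, 7, 9, 10, 11],
    [7, 8, 10, 11],
    [1, 3, 5, 7],
    [1, 3, 5, 6, 7, 8, 9],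
    [1, 6, 7, 9],
    [1, 7, 8],
    [3, 5, 7, 10],
    [3, 5, 6, 7, 8, 9, 10],
    [1, 6, 7, 9, 11],
    [1, 7, 8, 11],
    [3, 5, 7, 10, 11],
    [3, 5, 6, 7, 8, 9, 10, 11],
    [1, 3, 4, 8, 10],
    [1, 3, 4, 6, 9, 10, 11],
    [4, 5, 6, 8, 9, 11],
    [4, 5],
    [1, 3, 4, 8, 10, 11],
    [1, 3, 4, 6, 9, 10],
    [4, 5, 6, 8, 9],
    [4, 5, 11],
    [3, 4, 5, 7, 8, 9],
    [3, 4, 5, 6, 7],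
    [1, 4, 6, 7, 8, 10, 11],
    [1, 4, 7, 9, 10, 11],
    [3, 4, 5, 7, 8, 9, 11],
    [3, 4, 5, 6, 7, 11],
    [1, 4, 6, 7, 8, 10],
    [1, 4, 7, 9, 10],
    [1, 3, 4, 8, 9, 10],
    [1, 3, 4, 6, 10, 11],
    [4, 5, 6, 8, 11],
    [4, 5, 9],
    [1, 3, 4, 8, 9, 10, 11],
    [1, 3, 4, 6, 10],
    [4, 5, 6, 8],
    [4, 5, 9, 11],
    [3, 4, 5, 7, 8],
    [3, 4, 5, 6, 7, 9],
    [1, 4, 6, 7, 8, 9, 10, 11],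
    [1, 4, 7, 10, 11],
    [3, 4, 5, 7, 8, 11],
    [3, 4, 5, 6, 7, 9, 11],
    [1, 4, 6, 7, 8, 9, 10],
    [1, 4, 7, 10],
    [1, 3, 4, 5, 8, 9, 11],
    [1, 3, 4, 5, 6],
    [4, 6, 8, 10, 11],
    [4, 9, 10],
    [1, 3, 4, 5, 8, 9],
    [1, 3, 4, 5, 6, 11],
    [4, 6, 8, 10],
    [4, 9, 10, 11],
    [3, 4, 7, 8, 10, 11],
    [3, 4, 6, 7, 9, 10, 11],
    [1, 4, 5, 6, 7, 8, 9, 11],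
    [1, 4, 5, 7, 11],
    [3, 4, 7, 8, 10],
    [3, 4, 6, 7, 9, 10],
    [1, 4, 5, 6, 7, 8, 9],
    [1, 4, 5, 7],
    [1, 3, 4, 5, 8, 11],
    [1, 3, 4, 5, 6, 9],
    [4, 6, 8, 9, 10, 11],
    [4, 10],
    [1, 3, 4, 5, 8],
    [1, 3, 4, 5, 6, 9, 11],
    [4, 6, 8, 9, 10],
    [4, 10, 11],
    [3, 4, 7, 8, 9, 10, 11],
    [3, 4, 6, 7, 10, 11],
    [1, 4, 5, 6, 7, 8, 11],
    [1, 4, 5, 7, 9, 11],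
    [3, 4, 7, 8, 9, 10],
    [3, 4, 6, 7, 10],
    [1, 4, 5, 6, 7, 8],
    [1, 4, 5, 7, 9],
    [2, 6],
    [2, 8, 9, 11],
    [1, 2, 3, 5, 6, 8, 9, 11],
    [1, 2, 3, 5],
    [2, 6, 11],
    [2, 8, 9],
    [1, 2, 3, 5, 6, 8, 9],
    [1, 2, 3, 5, 11],
    [1, 2, 6, 9, 11],
    [1, 2, 8],
    [2, 3, 5, 6, 8],
    [2, 3, 5, 9, 11],
    [1, 2, 6, 9],
    [1, 2, 8, 11],
    [2, 3, 5, 6, 8, 11],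
    [2, 3, 5, 9],
    [2, 6, 9, 11],
    [2, 8],
    [1, 2, 3, 5, 6, 8],
    [1, 2, 3, 5, 9, 11],
    [2, 6, 9],
    [2, 8, 11],
    [1, 2, 3, 5, 6, 8, 11],
    [1, 2, 3, 5, 9],
    [1, 2, 6],
    [1, 2, 8, 9, 11],
    [2, 3, 5, 6, 8, 9, 11],
    [2, 3, 5],
    [1, 2, 6, 11],
    [1, 2, 8, 9],
    [2, 3, 5, 6, 8, 9],
    [2, 3, 5, 11],
    [2, 5, 6, 10, 11],
    [2, 5, 8, 9, 10],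
    [1, 2, 3, 6, 8, 9, 10, 11],
    [1, 2, 3, 10],
    [2, 5, 6, 10],
    [2, 5, 8, 9, 10, 11],
    [1, 2, 3, 6, 8, 9, 10],
    [1, 2, 3, 10, 11],
    [1, 2, 5, 6, 9, 10],
    [1, 2, 5, 8, 10, 11],
    [2, 3, 6, 8, 10],
    [2, 3, 9, 10, 11],
    [1, 2, 5, 6, 9, 10, 11],
    [1, 2, 5, 8, 10],
    [2, 3, 6, 8, 10, 11],
    [2, 3, 9, 10],
    [2, 5, 6, 9, 10],
    [2, 5, 8, 10, 11],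
    [1, 2, 3, 6, 8, 10],
    [1, 2, 3, 9, 10, 11],
    [2, 5, 6, 9, 10, 11],
    [2, 5, 8, 10],
    [1, 2, 3, 6, 8, 10, 11],
    [1, 2, 3, 9, 10],
    [1, 2, 5, 6, 10, 11],
    [1, 2, 5, 8, 9, 10],
    [2, 3, 6, 8, 9, 10, 11],
    [2, 3, 10],
    [1, 2, 5, 6, 10],
    [1, 2, 5, 8, 9, 10, 11],
    [2, 3, 6, 8, 9, 10],
    [2, 3, 10, 11],
    [1, 2, 3, 4, 5, 7, 8],
    [1, 2, 3, 4, 5, 6, 7, 9],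
    [2, 4, 7, 9],
    [2, 4, 6, 7, 8],
    [1, 2, 3, 4, 5, 7, 8, 11],
    [1, 2, 3, 4, 5, 6, 7, 9, 11],
    [2, 4, 7, 9, 11],
    [2, 4, 6, 7, 8, 11],
    [2, 3, 4, 8],
    [2, 3, 4, 6, 9, 11],
    [1, 2, 4, 5, 9],
    [1, 2, 4, 5, 6, 8, 11],
    [2, 3, 4, 8, 11],
    [2, 3, 4, 6, 9],
    [1, 2, 4, 5, 9, 11],
    [1, 2, 4, 5, 6, 8],
    [1, 2, 3, 4, 5, 7, 8, 9],
    [1, 2, 3, 4, 5, 6, 7],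
    [2, 4, 7],
    [2, 4, 6, 7, 8, 9],
    [1, 2, 3, 4, 5, 7, 8, 9, 11],
    [1, 2, 3, 4, 5, 6, 7, 11],
    [2, 4, 7, 11],
    [2, 4, 6, 7, 8, 9, 11],
    [2, 3, 4, 8, 9, 11],
    [2, 3, 4, 6],
    [1, 2, 4, 5, 11],
    [1, 2, 4, 5, 6, 8, 9],
    [2, 3, 4, 8, 9],
    [2, 3, 4, 6, 11],
    [1, 2, 4, 5],
    [1, 2, 4, 5, 6, 8, 9, 11],
    [1, 2, 3, 4, 7, 8, 10],
    [1, 2, 3, 4, 6, 7, 9, 10],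
    [2, 4, 5, 7, 9, 10, 11],
    [2, 4, 5, 6, 7, 8, 10, 11],
    [1, 2, 3, 4, 7, 8, 10, 11],
    [1, 2, 3, 4, 6, 7, 9, 10, 11],
    [2, 4, 5, 7, 9, 10],
    [2, 4, 5, 6, 7, 8, 10],
    [2, 3, 4, 5, 8, 10, 11],
    [2, 3, 4, 5, 6, 9, 10],
    [1, 2, 4, 9, 10],
    [1, 2, 4, 6, 8, 10, 11],
    [2, 3, 4, 5, 8, 10],
    [2, 3, 4, 5, 6, 9, 10, 11],
    [1, 2, 4, 9, 10, 11],
    [1, 2, 4, 6, 8, 10],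
    [1, 2, 3, 4, 7, 8, 9, 10],
    [1, 2, 3, 4, 6, 7, 10],
    [2, 4, 5, 7, 10, 11],
    [2, 4, 5, 6, 7, 8, 9, 10, 11],
    [1, 2, 3, 4, 7, 8, 9, 10, 11],
    [1, 2, 3, 4, 6, 7, 10, 11],
    [2, 4, 5, 7, 10],
    [2, 4, 5, 6, 7, 8, 9, 10],
    [2, 3, 4, 5, 8, 9, 10],
    [2, 3, 4, 5, 6, 10, 11],
    [1, 2, 4, 10, 11],
    [1, 2, 4, 6, 8, 9, 10],
    [2, 3, 4, 5, 8, 9, 10, 11],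
    [2, 3, 4, 5, 6, 10],
    [1, 2, 4, 10],
    [1, 2, 4, 6, 8, 9, 10, 11],
    [2, 5, 6, 7, 9],
    [2, 5, 7, 8],
    [1, 2, 3, 6, 7, 8, 11],
    [1, 2, 3, 7, 9, 11],
    [2, 5, 6, 7, 9, 11],
    [2, 5, 7, 8, 11],
    [1, 2, 3, 6, 7, 8],
    [1, 2, 3, 7, 9],
    [1, 2, 5, 6, 7, 11],
    [1, 2, 5, 7, 8, 9, 11],
    [2, 3, 6, 7, 8, 9],
    [2, 3, 7],
    [1, 2, 5, 6, 7],
    [1, 2, 5, 7, 8, 9],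
    [2, 3, 6, 7, 8, 9, 11],
    [2, 3, 7, 11],
    [2, 5, 6, 7, 11],
    [2, 5, 7, 8, 9, 11],
    [1, 2, 3, 6, 7, 8, 9],
    [1, 2, 3, 7],
    [2, 5, 6, 7],
    [2, 5, 7, 8, 9],
    [1, 2, 3, 6, 7, 8, 9, 11],
    [1, 2, 3, 7, 11],
    [1, 2, 5, 6, 7, 9, 11],
    [1, 2, 5, 7, 8, 11],
    [2, 3, 6, 7, 8],
    [2, 3, 7, 9],
    [1, 2, 5, 6, 7, 9],
    [1, 2, 5, 7, 8],
    [2, 3, 6, 7, 8, 11],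
    [2, 3, 7, 9, 11],
    [2, 6, 7, 9, 10, 11],
    [2, 7, 8, 10, 11],
    [1, 2, 3, 5, 6, 7, 8, 10, 11],
    [1, 2, 3, 5, 7, 9, 10, 11],
    [2, 6, 7, 9, 10],
    [2, 7, 8, 10],
    [1, 2, 3, 5, 6, 7, 8, 10],
    [1, 2, 3, 5, 7, 9, 10],
    [1, 2, 6, 7, 10, 11],
    [1, 2, 7, 8, 9, 10, 11],
    [2, 3, 5, 6, 7, 8, 9, 10, 11],
    [2, 3, 5, 7, 10, 11],
    [1, 2, 6, 7, 10],
    [1, 2, 7, 8, 9, 10],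
    [2, 3, 5, 6, 7, 8, 9, 10],
    [2, 3, 5, 7, 10],
    [2, 6, 7, 10],
    [2, 7, 8, 9, 10],
    [1, 2, 3, 5, 6, 7, 8, 9, 10],
    [1, 2, 3, 5, 7, 10],
    [2, 6, 7, 10, 11],
    [2, 7, 8, 9, 10, 11],
    [1, 2, 3, 5, 6, 7, 8, 9, 10, 11],
    [1, 2, 3, 5, 7, 10, 11],
    [1, 2, 6, 7, 9, 10, 11],
    [1, 2, 7, 8, 10, 11],
    [2, 3, 5, 6, 7, 8, 10, 11],
    [2, 3, 5, 7, 9, 10, 11],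
    [1, 2, 6, 7, 9, 10],
    [1, 2, 7, 8, 10],
    [2, 3, 5, 6, 7, 8, 10],
    [2, 3, 5, 7, 9, 10],
    [1, 2, 3, 4, 8, 9],
    [1, 2, 3, 4, 6, 11],
    [2, 4, 5],
    [2, 4, 5, 6, 8, 9, 11],
    [1, 2, 3, 4, 8, 9, 11],
    [1, 2, 3, 4, 6],
    [2, 4, 5, 11],
    [2, 4, 5, 6, 8, 9],
    [2, 3, 4, 5, 7, 8, 9],
    [2, 3, 4, 5, 6, 7],
    [1, 2, 4, 7],
    [1, 2, 4, 6, 7, 8, 9],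
    [2, 3, 4, 5, 7, 8, 9, 11],
    [2, 3, 4, 5, 6, 7, 11],
    [1, 2, 4, 7, 11],
    [1, 2, 4, 6, 7, 8, 9, 11],
    [1, 2, 3, 4, 8],
    [1, 2, 3, 4, 6, 9, 11],
    [2, 4, 5, 9],
    [2, 4, 5, 6, 8, 11],
    [1, 2, 3, 4, 8, 11],
    [1, 2, 3, 4, 6, 9],
    [2, 4, 5, 9, 11],
    [2, 4, 5, 6, 8],
    [2, 3, 4, 5, 7, 8],
    [2, 3, 4, 5, 6, 7, 9],
    [1, 2, 4, 7, 9],
    [1, 2, 4, 6, 7, 8],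
    [2, 3, 4, 5, 7, 8, 11],
    [2, 3, 4, 5, 6, 7, 9, 11],
    [1, 2, 4, 7, 9, 11],
    [1, 2, 4, 6, 7, 8, 11],
    [1, 2, 3, 4, 5, 8, 9, 10],
    [1, 2, 3, 4, 5, 6, 10, 11],
    [2, 4, 10, 11],
    [2, 4, 6, 8, 9, 10],
    [1, 2, 3, 4, 5, 8, 9, 10, 11],
    [1, 2, 3, 4, 5, 6, 10],
    [2, 4, 10],
    [2, 4, 6, 8, 9, 10, 11],
    [2, 3, 4, 7, 8, 9, 10],
    [2, 3, 4, 6, 7, 10],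
    [1, 2, 4, 5, 7, 10, 11],
    [1, 2, 4, 5, 6, 7, 8, 9, 10, 11],
    [2, 3, 4, 7, 8, 9, 10, 11],
    [2, 3, 4, 6, 7, 10, 11],
    [1, 2, 4, 5, 7, 10],
    [1, 2, 4, 5, 6, 7, 8, 9, 10],
    [1, 2, 3, 4, 5, 8, 10],
    [1, 2, 3, 4, 5, 6, 9, 10, 11],
    [2, 4, 9, 10, 11],
    [2, 4, 6, 8, 10],
    [1, 2, 3, 4, 5, 8, 10, 11],
    [1, 2, 3, 4, 5, 6, 9, 10],
    [2, 4, 9, 10],
    [2, 4, 6, 8, 10, 11],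
    [2, 3, 4, 7, 8, 10],
    [2, 3, 4, 6, 7, 9, 10],
    [1, 2, 4, 5, 7, 9, 10, 11],
    [1, 2, 4, 5, 6, 7, 8, 10, 11],
    [2, 3, 4, 7, 8, 10, 11],
    [2, 3, 4, 6, 7, 9, 10, 11],
    [1, 2, 4, 5, 7, 9, 10],
    [1, 2, 4, 5, 6, 7, 8, 10],
    [2, 9, 10],
    [2, 6, 8, 10, 11],
    [1, 2, 3, 5, 8, 10, 11],
    [1, 2, 3, 5, 6, 9, 10],
    [2, 9, 10, 11],
    [2, 6, 8, 10],
    [1, 2, 3, 5, 8, 10],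
    [1, 2, 3, 5, 6, 9, 10, 11],
    [1, 2, 9, 11],
    [1, 2, 6, 8],
    [2, 3, 5, 8, 11],
    [2, 3, 5, 6, 9],
    [1, 2, 9],
    [1, 2, 6, 8, 11],
    [2, 3, 5, 8],
    [2, 3, 5, 6, 9, 11],
    [2, 10, 11],
    [2, 6, 8, 9, 10],
    [1, 2, 3, 5, 8, 9, 10],
    [1, 2, 3, 5, 6, 10, 11],
    [2, 10],
    [2, 6, 8, 9, 10, 11],
    [1, 2, 3, 5, 8, 9, 10, 11],
    [1, 2, 3, 5, 6, 10],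
    [1, 2],
    [1, 2, 6, 8, 9, 11],
    [2, 3, 5, 8, 9],
    [2, 3, 5, 6, 11],
    [1, 2, 11],
    [1, 2, 6, 8, 9],
    [2, 3, 5, 8, 9, 11],
    [2, 3, 5, 6],
    [2, 5, 9, 11],
    [2, 5, 6, 8],
    [1, 2, 3, 8, 11],
    [1, 2, 3, 6, 9],
    [2, 5, 9],
    [2, 5, 6, 8, 11],
    [1, 2, 3, 8],
    [1, 2, 3, 6, 9, 11],
    [1, 2, 5, 9, 10, 11],
    [1, 2, 5, 6, 8, 10],
    [2, 3, 8, 10],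
    [2, 3, 6, 9, 10, 11],
    [1, 2, 5, 9, 10],
    [1, 2, 5, 6, 8, 10, 11],
    [2, 3, 8, 10, 11],
    [2, 3, 6, 9, 10],
    [2, 5],
    [2, 5, 6, 8, 9, 11],
    [1, 2, 3, 8, 9],
    [1, 2, 3, 6, 11],
    [2, 5, 11],
    [2, 5, 6, 8, 9],
    [1, 2, 3, 8, 9, 11],
    [1, 2, 3, 6],
    [1, 2, 5, 10],
    [1, 2, 5, 6, 8, 9, 10, 11],
    [2, 3, 8, 9, 10, 11],
    [2, 3, 6, 10],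
    [1, 2, 5, 10, 11],
    [1, 2, 5, 6, 8, 9, 10],
    [2, 3, 8, 9, 10],
    [2, 3, 6, 10, 11],
    [1, 2, 3, 4, 5, 6, 7, 8, 9, 10, 11],
    [1, 2, 3, 4, 5, 7, 10, 11],
    [2, 4, 6, 7, 10, 11],
    [2, 4, 7, 8, 9, 10, 11],
    [1, 2, 3, 4, 5, 6, 7, 8, 9, 10],
    [1, 2, 3, 4, 5, 7, 10],
    [2, 4, 6, 7, 10],
    [2, 4, 7, 8, 9, 10],
    [2, 3, 4, 6, 8],
    [2, 3, 4, 9, 11],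
    [1, 2, 4, 5, 6, 9, 11],
    [1, 2, 4, 5, 8],
    [2, 3, 4, 6, 8, 11],
    [2, 3, 4, 9],
    [1, 2, 4, 5, 6, 9],
    [1, 2, 4, 5, 8, 11],
    [1, 2, 3, 4, 5, 6, 7, 8, 10, 11],
    [1, 2, 3, 4, 5, 7, 9, 10, 11],
    [2, 4, 6, 7, 9, 10, 11],
    [2, 4, 7, 8, 10, 11],
    [1, 2, 3, 4, 5, 6, 7, 8, 10],
    [1, 2, 3, 4, 5, 7, 9, 10],
    [2, 4, 6, 7, 9, 10],
    [2, 4, 7, 8, 10],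
    [2, 3, 4, 6, 8, 9, 11],
    [2, 3, 4],
    [1, 2, 4, 5, 6],
    [1, 2, 4, 5, 8, 9, 11],
    [2, 3, 4, 6, 8, 9],
    [2, 3, 4, 11],
    [1, 2, 4, 5, 6, 11],
    [1, 2, 4, 5, 8, 9],
    [1, 2, 3, 4, 6, 7, 8, 9, 11],
    [1, 2, 3, 4, 7, 11],
    [2, 4, 5, 6, 7],
    [2, 4, 5, 7, 8, 9],
    [1, 2, 3, 4, 6, 7, 8, 9],
    [1, 2, 3, 4, 7],
    [2, 4, 5, 6, 7, 11],
    [2, 4, 5, 7, 8, 9, 11],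
    [2, 3, 4, 5, 6, 8, 10],
    [2, 3, 4, 5, 9, 10, 11],
    [1, 2, 4, 6, 9, 10],
    [1, 2, 4, 8, 10, 11],
    [2, 3, 4, 5, 6, 8, 10, 11],
    [2, 3, 4, 5, 9, 10],
    [1, 2, 4, 6, 9, 10, 11],
    [1, 2, 4, 8, 10],
    [1, 2, 3, 4, 6, 7, 8, 11],
    [1, 2, 3, 4, 7, 9, 11],
    [2, 4, 5, 6, 7, 9],
    [2, 4, 5, 7, 8],
    [1, 2, 3, 4, 6, 7, 8],
    [1, 2, 3, 4, 7, 9],
    [2, 4, 5, 6, 7, 9, 11],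
    [2, 4, 5, 7, 8, 11],
    [2, 3, 4, 5, 6, 8, 9, 10, 11],
    [2, 3, 4, 5, 10],
    [1, 2, 4, 6, 10, 11],
    [1, 2, 4, 8, 9, 10],
    [2, 3, 4, 5, 6, 8, 9, 10],
    [2, 3, 4, 5, 10, 11],
    [1, 2, 4, 6, 10],
    [1, 2, 4, 8, 9, 10, 11],
    [2, 5, 7, 10, 11],
    [2, 5, 6, 7, 8, 9, 10, 11],
    [1, 2, 3, 7, 8, 9, 10],
    [1, 2, 3, 6, 7, 10],
    [2, 5, 7, 10],
    [2, 5, 6, 7, 8, 9, 10],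
    [1, 2, 3, 7, 8, 9, 10, 11],
    [1, 2, 3, 6, 7, 10, 11],
    [1, 2, 5, 7],
    [1, 2, 5, 6, 7, 8, 9],
    [2, 3, 7, 8, 9],
    [2, 3, 6, 7],
    [1, 2, 5, 7, 11],
    [1, 2, 5, 6, 7, 8, 9, 11],
    [2, 3, 7, 8, 9, 11],
    [2, 3, 6, 7, 11],
    [2, 5, 7, 9, 10],
    [2, 5, 6, 7, 8, 10],
    [1, 2, 3, 7, 8, 10, 11],
    [1, 2, 3, 6, 7, 9, 10, 11],
    [2, 5, 7, 9, 10, 11],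
    [2, 5, 6, 7, 8, 10, 11],
    [1, 2, 3, 7, 8, 10],
    [1, 2, 3, 6, 7, 9, 10],
    [1, 2, 5, 7, 9],
    [1, 2, 5, 6, 7, 8],
    [2, 3, 7, 8],
    [2, 3, 6, 7, 9],
    [1, 2, 5, 7, 9, 11],
    [1, 2, 5, 6, 7, 8, 11],
    [2, 3, 7, 8, 11],
    [2, 3, 6, 7, 9, 11],
    [2, 7],
    [2, 6, 7, 8, 9],
    [1, 2, 3, 5, 7, 8, 9],
    [1, 2, 3, 5, 6, 7],
    [2, 7, 11],
    [2, 6, 7, 8, 9, 11],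
    [1, 2, 3, 5, 7, 8, 9, 11],
    [1, 2, 3, 5, 6, 7, 11],
    [1, 2, 7, 10, 11],
    [1, 2, 6, 7, 8, 9, 10, 11],
    [2, 3, 5, 7, 8, 9, 10],
    [2, 3, 5, 6, 7, 10],
    [1, 2, 7, 10],
    [1, 2, 6, 7, 8, 9, 10],
    [2, 3, 5, 7, 8, 9, 10, 11],
    [2, 3, 5, 6, 7, 10, 11],
    [2, 7, 9, 11],
    [2, 6, 7, 8, 11],
    [1, 2, 3, 5, 7, 8, 11],
    [1, 2, 3, 5, 6, 7, 9, 11],
    [2, 7, 9],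
    [2, 6, 7, 8],
    [1, 2, 3, 5, 7, 8],
    [1, 2, 3, 5, 6, 7, 9],
    [1, 2, 7, 9, 10, 11],
    [1, 2, 6, 7, 8, 10, 11],
    [2, 3, 5, 7, 8, 10],
    [2, 3, 5, 6, 7, 9, 10],
    [1, 2, 7, 9, 10],
    [1, 2, 6, 7, 8, 10],
    [2, 3, 5, 7, 8, 10, 11],
    [2, 3, 5, 6, 7, 9, 10, 11],
    [1, 2, 3, 4, 6, 8, 10],
    [1, 2, 3, 4, 9, 10, 11],
    [2, 4, 5, 6, 9, 10],
    [2, 4, 5, 8, 10, 11],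
    [1, 2, 3, 4, 6, 8, 10, 11],
    [1, 2, 3, 4, 9, 10],
    [2, 4, 5, 6, 9, 10, 11],
    [2, 4, 5, 8, 10],
    [2, 3, 4, 5, 6, 7, 8, 9, 11],
    [2, 3, 4, 5, 7, 11],
    [1, 2, 4, 6, 7],
    [1, 2, 4, 7, 8, 9],
    [2, 3, 4, 5, 6, 7, 8, 9],
    [2, 3, 4, 5, 7],
    [1, 2, 4, 6, 7, 11],
    [1, 2, 4, 7, 8, 9, 11],
    [1, 2, 3, 4, 6, 8, 9, 10],
    [1, 2, 3, 4, 10, 11],
    [2, 4, 5, 6, 10],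
    [2, 4, 5, 8, 9, 10, 11],
    [1, 2, 3, 4, 6, 8, 9, 10, 11],
    [1, 2, 3, 4, 10],
    [2, 4, 5, 6, 10, 11],
    [2, 4, 5, 8, 9, 10],
    [2, 3, 4, 5, 6, 7, 8, 11],
    [2, 3, 4, 5, 7, 9, 11],
    [1, 2, 4, 6, 7, 9],
    [1, 2, 4, 7, 8],
    [2, 3, 4, 5, 6, 7, 8],
    [2, 3, 4, 5, 7, 9],
    [1, 2, 4, 6, 7, 9, 11],
    [1, 2, 4, 7, 8, 11],
    [1, 2, 3, 4, 5, 6, 8],
    [1, 2, 3, 4, 5, 9, 11],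
    [2, 4, 6, 9, 11],
    [2, 4, 8],
    [1, 2, 3, 4, 5, 6, 8, 11],
    [1, 2, 3, 4, 5, 9],
    [2, 4, 6, 9],
    [2, 4, 8, 11],
    [2, 3, 4, 6, 7, 8, 9, 10],
    [2, 3, 4, 7, 10],
    [1, 2, 4, 5, 6, 7, 10],
    [1, 2, 4, 5, 7, 8, 9, 10],
    [2, 3, 4, 6, 7, 8, 9, 10, 11],
    [2, 3, 4, 7, 10, 11],
    [1, 2, 4, 5, 6, 7, 10, 11],
    [1, 2, 4, 5, 7, 8, 9, 10, 11],
    [1, 2, 3, 4, 5, 6, 8, 9],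
    [1, 2, 3, 4, 5, 11],
    [2, 4, 6, 11],
    [2, 4, 8, 9],
    [1, 2, 3, 4, 5, 6, 8, 9, 11],
    [1, 2, 3, 4, 5],
    [2, 4, 6],
    [2, 4, 8, 9, 11],
    [2, 3, 4, 6, 7, 8, 10],
    [2, 3, 4, 7, 9, 10],
    [1, 2, 4, 5, 6, 7, 9, 10],
    [1, 2, 4, 5, 7, 8, 10],
    [2, 3, 4, 6, 7, 8, 10, 11],
    [2, 3, 4, 7, 9, 10, 11],
    [1, 2, 4, 5, 6, 7, 9, 10, 11],
    [1, 2, 4, 5, 7, 8, 10, 11],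
    [2, 6, 9, 10],
    [2, 8, 10, 11],
    [1, 2, 3, 5, 6, 8, 10],
    [1, 2, 3, 5, 9, 10, 11],
    [2, 6, 9, 10, 11],
    [2, 8, 10],
    [1, 2, 3, 5, 6, 8, 10, 11],
    [1, 2, 3, 5, 9, 10],
    [1, 2, 6, 10, 11],
    [1, 2, 8, 9, 10],
    [2, 3, 5, 6, 8, 9, 10, 11],
    [2, 3, 5, 10],
    [1, 2, 6, 10],
    [1, 2, 8, 9, 10, 11],
    [2, 3, 5, 6, 8, 9, 10],
    [2, 3, 5, 10, 11],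
    [2, 6, 10, 11],
    [2, 8, 9, 10],
    [1, 2, 3, 5, 6, 8, 9, 10, 11],
    [1, 2, 3, 5, 10],
    [2, 6, 10],
    [2, 8, 9, 10, 11],
    [1, 2, 3, 5, 6, 8, 9, 10],
    [1, 2, 3, 5, 10, 11],
    [1, 2, 6, 9, 10],
    [1, 2, 8, 10, 11],
    [2, 3, 5, 6, 8, 10],
    [2, 3, 5, 9, 10, 11],
    [1, 2, 6, 9, 10, 11],
    [1, 2, 8, 10],
    [2, 3, 5, 6, 8, 10, 11],
    [2, 3, 5, 9, 10],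
    [2, 5, 6, 9, 11],
    [2, 5, 8],
    [1, 2, 3, 6, 8],
    [1, 2, 3, 9, 11],
    [2, 5, 6, 9],
    [2, 5, 8, 11],
    [1, 2, 3, 6, 8, 11],
    [1, 2, 3, 9],
    [1, 2, 5, 6, 11],
    [1, 2, 5, 8, 9],
    [2, 3, 6, 8, 9],
    [2, 3, 11],
    [1, 2, 5, 6],
    [1, 2, 5, 8, 9, 11],
    [2, 3, 6, 8, 9, 11],
    [2, 3],
    [2, 5, 6],
    [2, 5, 8, 9, 11],
    [1, 2, 3, 6, 8, 9, 11],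
    [1, 2, 3],
    [2, 5, 6, 11],
    [2, 5, 8, 9],
    [1, 2, 3, 6, 8, 9],
    [1, 2, 3, 11],
    [1, 2, 5, 6, 9],
    [1, 2, 5, 8, 11],
    [2, 3, 6, 8, 11],
    [2, 3, 9],
    [1, 2, 5, 6, 9, 11],
    [1, 2, 5, 8],
    [2, 3, 6, 8],
    [2, 3, 9, 11],
    [1, 2, 3, 4, 5, 7, 8, 9, 10],
    [1, 2, 3, 4, 5, 6, 7, 10],
    [2, 4, 7, 10, 11],
    [2, 4, 6, 7, 8, 9, 10, 11],
    [1, 2, 3, 4, 5, 7, 8, 9, 10, 11],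
    [1, 2, 3, 4, 5, 6, 7, 10, 11],
    [2, 4, 7, 10],
    [2, 4, 6, 7, 8, 9, 10],
    [2, 3, 4, 8, 9, 10],
    [2, 3, 4, 6, 10, 11],
    [1, 2, 4, 5, 10, 11],
    [1, 2, 4, 5, 6, 8, 9, 10],
    [2, 3, 4, 8, 9, 10, 11],
    [2, 3, 4, 6, 10],
    [1, 2, 4, 5, 10],
    [1, 2, 4, 5, 6, 8, 9, 10, 11],
    [1, 2, 3, 4, 5, 7, 8, 10],
    [1, 2, 3, 4, 5, 6, 7, 9, 10],
    [2, 4, 7, 9, 10, 11],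
    [2, 4, 6, 7, 8, 10, 11],
    [1, 2, 3, 4, 5, 7, 8, 10, 11],
    [1, 2, 3, 4, 5, 6, 7, 9, 10, 11],
    [2, 4, 7, 9, 10],
    [2, 4, 6, 7, 8, 10],
    [2, 3, 4, 8, 10, 11],
    [2, 3, 4, 6, 9, 10],
    [1, 2, 4, 5, 9, 10],
    [1, 2, 4, 5, 6, 8, 10, 11],
    [2, 3, 4, 8, 10],
    [2, 3, 4, 6, 9, 10, 11],
    [1, 2, 4, 5, 9, 10, 11],
    [1, 2, 4, 5, 6, 8, 10],
    [1, 2, 3, 4, 7, 8, 9],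
    [1, 2, 3, 4, 6, 7],
    [2, 4, 5, 7],
    [2, 4, 5, 6, 7, 8, 9],
    [1, 2, 3, 4, 7, 8, 9, 11],
    [1, 2, 3, 4, 6, 7, 11],
    [2, 4, 5, 7, 11],
    [2, 4, 5, 6, 7, 8, 9, 11],
    [2, 3, 4, 5, 8, 9],
    [2, 3, 4, 5, 6, 11],
    [1, 2, 4],
    [1, 2, 4, 6, 8, 9, 11],
    [2, 3, 4, 5, 8, 9, 11],
    [2, 3, 4, 5, 6],
    [1, 2, 4, 11],
    [1, 2, 4, 6, 8, 9],
    [1, 2, 3, 4, 7, 8],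
    [1, 2, 3, 4, 6, 7, 9],
    [2, 4, 5, 7, 9],
    [2, 4, 5, 6, 7, 8],
    [1, 2, 3, 4, 7, 8, 11],
    [1, 2, 3, 4, 6, 7, 9, 11],
    [2, 4, 5, 7, 9, 11],
    [2, 4, 5, 6, 7, 8, 11],
    [2, 3, 4, 5, 8, 11],
    [2, 3, 4, 5, 6, 9],
    [1, 2, 4, 9, 11],
    [1, 2, 4, 6, 8],
    [2, 3, 4, 5, 8],
    [2, 3, 4, 5, 6, 9, 11],
    [1, 2, 4, 9],
    [1, 2, 4, 6, 8, 11],
    [2, 5, 6, 7, 10],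
    [2, 5, 7, 8, 9, 10],
    [1, 2, 3, 6, 7, 8, 9, 10],
    [1, 2, 3, 7, 10],
    [2, 5, 6, 7, 10, 11],
    [2, 5, 7, 8, 9, 10, 11],
    [1, 2, 3, 6, 7, 8, 9, 10, 11],
    [1, 2, 3, 7, 10, 11],
    [1, 2, 5, 6, 7, 9, 10, 11],
    [1, 2, 5, 7, 8, 10, 11],
    [2, 3, 6, 7, 8, 10, 11],
    [2, 3, 7, 9, 10, 11],
    [1, 2, 5, 6, 7, 9, 10],
    [1, 2, 5, 7, 8, 10],
    [2, 3, 6, 7, 8, 10],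
    [2, 3, 7, 9, 10],
    [2, 5, 6, 7, 9, 10, 11],
    [2, 5, 7, 8, 10, 11],
    [1, 2, 3, 6, 7, 8, 10, 11],
    [1, 2, 3, 7, 9, 10, 11],
    [2, 5, 6, 7, 9, 10],
    [2, 5, 7, 8, 10],
    [1, 2, 3, 6, 7, 8, 10],
    [1, 2, 3, 7, 9, 10],
    [1, 2, 5, 6, 7, 10, 11],
    [1, 2, 5, 7, 8, 9, 10, 11],
    [2, 3, 6, 7, 8, 9, 10, 11],
    [2, 3, 7, 10, 11],
    [1, 2, 5, 6, 7, 10],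
    [1, 2, 5, 7, 8, 9, 10],
    [2, 3, 6, 7, 8, 9, 10],
    [2, 3, 7, 10],
    [2, 6, 7, 11],
    [2, 7, 8, 9, 11],
    [1, 2, 3, 5, 6, 7, 8, 9],
    [1, 2, 3, 5, 7],
    [2, 6, 7],
    [2, 7, 8, 9],
    [1, 2, 3, 5, 6, 7, 8, 9, 11],
    [1, 2, 3, 5, 7, 11],
    [1, 2, 6, 7, 9],
    [1, 2, 7, 8],
    [2, 3, 5, 6, 7, 8, 11],
    [2, 3, 5, 7, 9, 11],
    [1, 2, 6, 7, 9, 11],
    [1, 2, 7, 8, 11],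
    [2, 3, 5, 6, 7, 8],
    [2, 3, 5, 7, 9],
    [2, 6, 7, 9],
    [2, 7, 8],
    [1, 2, 3, 5, 6, 7, 8, 11],
    [1, 2, 3, 5, 7, 9, 11],
    [2, 6, 7, 9, 11],
    [2, 7, 8, 11],
    [1, 2, 3, 5, 6, 7, 8],
    [1, 2, 3, 5, 7, 9],
    [1, 2, 6, 7],
    [1, 2, 7, 8, 9],
    [2, 3, 5, 6, 7, 8, 9, 11],
    [2, 3, 5, 7, 11],
    [1, 2, 6, 7, 11],
    [1, 2, 7, 8, 9, 11],
    [2, 3, 5, 6, 7, 8, 9],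
    [2, 3, 5, 7],
    [1, 2, 3, 4, 8, 10],
    [1, 2, 3, 4, 6, 9, 10, 11],
    [2, 4, 5, 9, 10, 11],
    [2, 4, 5, 6, 8, 10],
    [1, 2, 3, 4, 8, 10, 11],
    [1, 2, 3, 4, 6, 9, 10],
    [2, 4, 5, 9, 10],
    [2, 4, 5, 6, 8, 10, 11],
    [2, 3, 4, 5, 7, 8, 10],
    [2, 3, 4, 5, 6, 7, 9, 10],
    [1, 2, 4, 7, 9, 10, 11],
    [1, 2, 4, 6, 7, 8, 10, 11],
    [2, 3, 4, 5, 7, 8, 10, 11],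
    [2, 3, 4, 5, 6, 7, 9, 10, 11],
    [1, 2, 4, 7, 9, 10],
    [1, 2, 4, 6, 7, 8, 10],
    [1, 2, 3, 4, 8, 9, 10],
    [1, 2, 3, 4, 6, 10, 11],
    [2, 4, 5, 10, 11],
    [2, 4, 5, 6, 8, 9, 10],
    [1, 2, 3, 4, 8, 9, 10, 11],
    [1, 2, 3, 4, 6, 10],
    [2, 4, 5, 10],
    [2, 4, 5, 6, 8, 9, 10, 11],
    [2, 3, 4, 5, 7, 8, 9, 10],
    [2, 3, 4, 5, 6, 7, 10],
    [1, 2, 4, 7, 10, 11],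
    [1, 2, 4, 6, 7, 8, 9, 10, 11],
    [2, 3, 4, 5, 7, 8, 9, 10, 11],
    [2, 3, 4, 5, 6, 7, 10, 11],
    [1, 2, 4, 7, 10],
    [1, 2, 4, 6, 7, 8, 9, 10],
    [1, 2, 3, 4, 5, 8],
    [1, 2, 3, 4, 5, 6, 9, 11],
    [2, 4, 9],
    [2, 4, 6, 8, 11],
    [1, 2, 3, 4, 5, 8, 11],
    [1, 2, 3, 4, 5, 6, 9],
    [2, 4, 9, 11],
    [2, 4, 6, 8],
    [2, 3, 4, 7, 8, 11],
    [2, 3, 4, 6, 7, 9, 11],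
    [1, 2, 4, 5, 7, 9, 11],
    [1, 2, 4, 5, 6, 7, 8, 11],
    [2, 3, 4, 7, 8],
    [2, 3, 4, 6, 7, 9],
    [1, 2, 4, 5, 7, 9],
    [1, 2, 4, 5, 6, 7, 8],
    [1, 2, 3, 4, 5, 8, 9],
    [1, 2, 3, 4, 5, 6, 11],
    [2, 4],
    [2, 4, 6, 8, 9, 11],
    [1, 2, 3, 4, 5, 8, 9, 11],
    [1, 2, 3, 4, 5, 6],
    [2, 4, 11],
    [2, 4, 6, 8, 9],
    [2, 3, 4, 7, 8, 9, 11],
    [2, 3, 4, 6, 7, 11],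
    [1, 2, 4, 5, 7, 11],
    [1, 2, 4, 5, 6, 7, 8, 9, 11],
    [2, 3, 4, 7, 8, 9],
    [2, 3, 4, 6, 7],
    [1, 2, 4, 5, 7],
    [1, 2, 4, 5, 6, 7, 8, 9],
    [2],
    [2, 6, 8, 9, 11],
    [1, 2, 3, 5, 8, 9],
    [1, 2, 3, 5, 6, 11],
    [2, 11],
    [2, 6, 8, 9],
    [1, 2, 3, 5, 8, 9, 11],
    [1, 2, 3, 5, 6],
    [1, 2, 10, 11],
    [1, 2, 6, 8, 9, 10],
    [2, 3, 5, 8, 9, 10],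
    [2, 3, 5, 6, 10, 11],
    [1, 2, 10],
    [1, 2, 6, 8, 9, 10, 11],
    [2, 3, 5, 8, 9, 10, 11],
    [2, 3, 5, 6, 10],
    [2, 9, 11],
    [2, 6, 8],
    [1, 2, 3, 5, 8, 11],
    [1, 2, 3, 5, 6, 9],
    [2, 9],
    [2, 6, 8, 11],
    [1, 2, 3, 5, 8],
    [1, 2, 3, 5, 6, 9, 11],
    [1, 2, 9, 10],
    [1, 2, 6, 8, 10, 11],
    [2, 3, 5, 8, 10, 11],
    [2, 3, 5, 6, 9, 10],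
    [1, 2, 9, 10, 11],
    [1, 2, 6, 8, 10],
    [2, 3, 5, 8, 10],
    [2, 3, 5, 6, 9, 10, 11],
    [2, 5, 10, 11],
    [2, 5, 6, 8, 9, 10],
    [1, 2, 3, 8, 9, 10],
    [1, 2, 3, 6, 10, 11],
    [2, 5, 10],
    [2, 5, 6, 8, 9, 10, 11],
    [1, 2, 3, 8, 9, 10, 11],
    [1, 2, 3, 6, 10],
    [1, 2, 5],
    [1, 2, 5, 6, 8, 9, 11],
    [2, 3, 8, 9],
    [2, 3, 6, 11],
    [1, 2, 5, 11],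
    [1, 2, 5, 6, 8, 9],
    [2, 3, 8, 9, 11],
    [2, 3, 6],
    [2, 5, 9, 10],
    [2, 5, 6, 8, 10, 11],
    [1, 2, 3, 8, 10, 11],
    [1, 2, 3, 6, 9, 10],
    [2, 5, 9, 10, 11],
    [2, 5, 6, 8, 10],
    [1, 2, 3, 8, 10],
    [1, 2, 3, 6, 9, 10, 11],
    [1, 2, 5, 9, 11],
    [1, 2, 5, 6, 8],
    [2, 3, 8, 11],
    [2, 3, 6, 9],
    [1, 2, 5, 9],
    [1, 2, 5, 6, 8, 11],
    [2, 3, 8],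
    [2, 3, 6, 9, 11],
    [1, 2, 3, 4, 5, 6, 7, 8, 11],
    [1, 2, 3, 4, 5, 7, 9, 11],
    [2, 4, 6, 7, 9],
    [2, 4, 7, 8],
    [1, 2, 3, 4, 5, 6, 7, 8],
    [1, 2, 3, 4, 5, 7, 9],
    [2, 4, 6, 7, 9, 11],
    [2, 4, 7, 8, 11],
    [2, 3, 4, 6, 8, 9, 10],
    [2, 3, 4, 10, 11],
    [1, 2, 4, 5, 6, 10],
    [1, 2, 4, 5, 8, 9, 10, 11],
    [2, 3, 4, 6, 8, 9, 10, 11],
    [2, 3, 4, 10],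
    [1, 2, 4, 5, 6, 10, 11],
    [1, 2, 4, 5, 8, 9, 10],
    [1, 2, 3, 4, 5, 6, 7, 8, 9, 11],
    [1, 2, 3, 4, 5, 7, 11],
    [2, 4, 6, 7],
    [2, 4, 7, 8, 9],
    [1, 2, 3, 4, 5, 6, 7, 8, 9],
    [1, 2, 3, 4, 5, 7],
    [2, 4, 6, 7, 11],
    [2, 4, 7, 8, 9, 11],
    [2, 3, 4, 6, 8, 10, 11],
    [2, 3, 4, 9, 10],
    [1, 2, 4, 5, 6, 9, 10, 11],
    [1, 2, 4, 5, 8, 10],
    [2, 3, 4, 6, 8, 10],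
    [2, 3, 4, 9, 10, 11],
    [1, 2, 4, 5, 6, 9, 10],
    [1, 2, 4, 5, 8, 10, 11],
    [1, 2, 3, 4, 6, 7, 8, 10, 11],
    [1, 2, 3, 4, 7, 9, 10, 11],
    [2, 4, 5, 6, 7, 9, 10, 11],
    [2, 4, 5, 7, 8, 10, 11],
    [1, 2, 3, 4, 6, 7, 8, 10],
    [1, 2, 3, 4, 7, 9, 10],
    [2, 4, 5, 6, 7, 9, 10],
    [2, 4, 5, 7, 8, 10],
    [2, 3, 4, 5, 6, 8, 9, 11],
    [2, 3, 4, 5],
    [1, 2, 4, 6],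
    [1, 2, 4, 8, 9, 11],
    [2, 3, 4, 5, 6, 8, 9],
    [2, 3, 4, 5, 11],
    [1, 2, 4, 6, 11],
    [1, 2, 4, 8, 9],
    [1, 2, 3, 4, 6, 7, 8, 9, 10, 11],
    [1, 2, 3, 4, 7, 10, 11],
    [2, 4, 5, 6, 7, 10, 11],
    [2, 4, 5, 7, 8, 9, 10, 11],
    [1, 2, 3, 4, 6, 7, 8, 9, 10],
    [1, 2, 3, 4, 7, 10],
    [2, 4, 5, 6, 7, 10],
    [2, 4, 5, 7, 8, 9, 10],
    [2, 3, 4, 5, 6, 8],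
    [2, 3, 4, 5, 9, 11],
    [1, 2, 4, 6, 9, 11],
    [1, 2, 4, 8],
    [2, 3, 4, 5, 6, 8, 11],
    [2, 3, 4, 5, 9],
    [1, 2, 4, 6, 9],
    [1, 2, 4, 8, 11],
    [2, 5, 7, 9, 11],
    [2, 5, 6, 7, 8, 11],
    [1, 2, 3, 7, 8, 11],
    [1, 2, 3, 6, 7, 9, 11],
    [2, 5, 7, 9],
    [2, 5, 6, 7, 8],
    [1, 2, 3, 7, 8],
    [1, 2, 3, 6, 7, 9],
    [1, 2, 5, 7, 9, 10],
    [1, 2, 5, 6, 7, 8, 10],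
    [2, 3, 7, 8, 10, 11],
    [2, 3, 6, 7, 9, 10, 11],
    [1, 2, 5, 7, 9, 10, 11],
    [1, 2, 5, 6, 7, 8, 10, 11],
    [2, 3, 7, 8, 10],
    [2, 3, 6, 7, 9, 10],
    [2, 5, 7],
    [2, 5, 6, 7, 8, 9],
    [1, 2, 3, 7, 8, 9],
    [1, 2, 3, 6, 7],
    [2, 5, 7, 11],
    [2, 5, 6, 7, 8, 9, 11],
    [1, 2, 3, 7, 8, 9, 11],
    [1, 2, 3, 6, 7, 11],
    [1, 2, 5, 7, 10],
    [1, 2, 5, 6, 7, 8, 9, 10],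
    [2, 3, 7, 8, 9, 10, 11],
    [2, 3, 6, 7, 10, 11],
    [1, 2, 5, 7, 10, 11],
    [1, 2, 5, 6, 7, 8, 9, 10, 11],
    [2, 3, 7, 8, 9, 10],
    [2, 3, 6, 7, 10],
    [2, 7, 9, 10],
    [2, 6, 7, 8, 10],
    [1, 2, 3, 5, 7, 8, 10, 11],
    [1, 2, 3, 5, 6, 7, 9, 10, 11],
    [2, 7, 9, 10, 11],
    [2, 6, 7, 8, 10, 11],
    [1, 2, 3, 5, 7, 8, 10],
    [1, 2, 3, 5, 6, 7, 9, 10],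
    [1, 2, 7, 9],
    [1, 2, 6, 7, 8],
    [2, 3, 5, 7, 8],
    [2, 3, 5, 6, 7, 9],
    [1, 2, 7, 9, 11],
    [1, 2, 6, 7, 8, 11],
    [2, 3, 5, 7, 8, 11],
    [2, 3, 5, 6, 7, 9, 11],
    [2, 7, 10, 11],
    [2, 6, 7, 8, 9, 10, 11],
    [1, 2, 3, 5, 7, 8, 9, 10],
    [1, 2, 3, 5, 6, 7, 10],
    [2, 7, 10],
    [2, 6, 7, 8, 9, 10],
    [1, 2, 3, 5, 7, 8, 9, 10, 11],
    [1, 2, 3, 5, 6, 7, 10, 11],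
    [1, 2, 7],
    [1, 2, 6, 7, 8, 9],
    [2, 3, 5, 7, 8, 9],
    [2, 3, 5, 6, 7],
    [1, 2, 7, 11],
    [1, 2, 6, 7, 8, 9, 11],
    [2, 3, 5, 7, 8, 9, 11],
    [2, 3, 5, 6, 7, 11],
    [1, 2, 3, 4, 6, 8, 9],
    [1, 2, 3, 4, 11],
    [2, 4, 5, 6, 11],
    [2, 4, 5, 8, 9],
    [1, 2, 3, 4, 6, 8, 9, 11],
    [1, 2, 3, 4],
    [2, 4, 5, 6],
    [2, 4, 5, 8, 9, 11],
    [2, 3, 4, 5, 6, 7, 8, 10, 11],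
    [2, 3, 4, 5, 7, 9, 10, 11],
    [1, 2, 4, 6, 7, 9, 10, 11],
    [1, 2, 4, 7, 8, 10, 11],
    [2, 3, 4, 5, 6, 7, 8, 10],
    [2, 3, 4, 5, 7, 9, 10],
    [1, 2, 4, 6, 7, 9, 10],
    [1, 2, 4, 7, 8, 10],
    [1, 2, 3, 4, 6, 8],
    [1, 2, 3, 4, 9, 11],
    [2, 4, 5, 6, 9, 11],
    [2, 4, 5, 8],
    [1, 2, 3, 4, 6, 8, 11],
    [1, 2, 3, 4, 9],
    [2, 4, 5, 6, 9],
    [2, 4, 5, 8, 11],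
    [2, 3, 4, 5, 6, 7, 8, 9, 10, 11],
    [2, 3, 4, 5, 7, 10, 11],
    [1, 2, 4, 6, 7, 10, 11],
    [1, 2, 4, 7, 8, 9, 10, 11],
    [2, 3, 4, 5, 6, 7, 8, 9, 10],
    [2, 3, 4, 5, 7, 10],
    [1, 2, 4, 6, 7, 10],
    [1, 2, 4, 7, 8, 9, 10],
    [1, 2, 3, 4, 5, 6, 8, 9, 10],
    [1, 2, 3, 4, 5, 10, 11],
    [2, 4, 6, 10],
    [2, 4, 8, 9, 10, 11],
    [1, 2, 3, 4, 5, 6, 8, 9, 10, 11],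
    [1, 2, 3, 4, 5, 10],
    [2, 4, 6, 10, 11],
    [2, 4, 8, 9, 10],
    [2, 3, 4, 6, 7, 8, 11],
    [2, 3, 4, 7, 9, 11],
    [1, 2, 4, 5, 6, 7, 9],
    [1, 2, 4, 5, 7, 8],
    [2, 3, 4, 6, 7, 8],
    [2, 3, 4, 7, 9],
    [1, 2, 4, 5, 6, 7, 9, 11],
    [1, 2, 4, 5, 7, 8, 11],
    [1, 2, 3, 4, 5, 6, 8, 10],
    [1, 2, 3, 4, 5, 9, 10, 11],
    [2, 4, 6, 9, 10],
    [2, 4, 8, 10, 11],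
    [1, 2, 3, 4, 5, 6, 8, 10, 11],
    [1, 2, 3, 4, 5, 9, 10],
    [2, 4, 6, 9, 10, 11],
    [2, 4, 8, 10],
    [2, 3, 4, 6, 7, 8, 9, 11],
    [2, 3, 4, 7, 11],
    [1, 2, 4, 5, 6, 7],
    [1, 2, 4, 5, 7, 8, 9],
    [2, 3, 4, 6, 7, 8, 9],
    [2, 3, 4, 7],
    [1, 2, 4, 5, 6, 7, 11],
    [1, 2, 4, 5, 7, 8, 9, 11]]

/-- Conjugation data. -/
def conj2 : List Conj :=
   [(0, [1, 3, 5, 6, 7], [4, 5, 6, 7, 11]),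
    (0, [1, 3, 4, 5, 9, 10], [1, 3, 4, 5, 9, 10, 11]),
    (0, [1, 3, 4, 7, 10], [1, 3, 5, 9]),
    (0, [4, 5, 7, 10], [1, 3, 9, 11]),
    (0, [4, 5, 9, 11], [1, 3, 4, 6, 9, 10, 11]),
    (0, [1, 3, 4], [5, 8, 9, 11]),
    (0, [1, 3, 6, 7, 8, 9], [1, 3, 6, 7, 8, 9, 11]),
    (0, [1, 3, 6, 7, 11], [1, 3, 4, 5, 6, 7]),
    (1, [1, 2, 5, 7, 10, 11], [0, 1, 2, 3, 4, 6, 7, 8, 9, 11]),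
    (1, [1, 5, 6, 7, 9, 10, 11], [0, 1, 3, 4, 6, 7, 8]),
    (1, [1, 5, 7], [0, 1, 3, 4, 7, 8, 9, 10]),
    (1, [0, 1, 2, 3, 4, 7, 9, 10], [1, 5, 6, 7, 8]),
    (1, [0, 2, 3, 4, 7, 9, 10, 11], [0, 2, 3, 4, 7, 9]),
    (2, [0, 3, 4, 7, 8], [2, 9, 10, 11]),
    (2, [2, 9], [1, 5, 7]),
    (2, [7, 8, 10], [1, 2, 5, 8, 9, 10]),
    (2, [0, 1, 3, 4, 8, 9, 11], [2, 8, 9, 11]),
    (2, [0, 1, 3, 4, 9, 10], [1, 2, 5, 8, 11]),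
    (2, [0, 2, 3, 4, 6, 9, 10, 11], [0, 1, 3, 4, 7, 8, 10])]

/-- Equations between tails. -/
def cert2 : Cert where
  eqns := [.cons [2, 1, 0] 0 1,
    .cons [3, 1, 0] 0 1,
    .cons [3, 2, 0] 0 1,
    .cons [3, 2, 1] 0 1,
    .cons [4, 1, 0] 0 1,
    .cons [4, 2, 0] 0 1,
    .cons [4, 2, 1] 0 1,
    .cons [4, 3, 0] 0 1,
    .cons [4, 3, 1] 0 1,
    .cons [4, 3, 2] 0 1,
    .cons [5, 1, 0] 0 1,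
    .cons [5, 2, 0] 0 1,
    .cons [5, 2, 1] 0 1,
    .cons [5, 3, 0] 0 1,
    .cons [5, 3, 2] 0 1,
    .cons [5, 4, 0] 0 1,
    .cons [5, 4, 1] 0 1,
    .cons [5, 4, 2] 0 1,
    .cons [5, 4, 3] 0 1,
    .cons [6, 1, 0] 0 1,
    .cons [6, 2, 0] 0 1,
    .cons [6, 2, 1] 0 1,
    .cons [6, 3, 0] 0 1,
    .cons [6, 3, 1] 0 1,
    .cons [6, 3, 2] 0 1,
    .cons [6, 4, 0] 0 1,
    .cons [6, 4, 1] 0 1,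
    .cons [6, 4, 2] 0 1,
    .cons [6, 4, 3] 0 1,
    .cons [6, 5, 0] 0 1,
    .cons [6, 5, 1] 0 1,
    .cons [6, 5, 2] 0 1,
    .cons [6, 5, 3] 0 1,
    .cons [6, 5, 4] 0 1,
    .cons [7, 2, 0] 0 1,
    .cons [7, 2, 1] 0 1,
    .cons [7, 3, 0] 0 1,
    .cons [7, 3, 2] 0 1,
    .cons [7, 4, 2] 0 1,
    .cons [7, 4, 3] 0 1,
    .cons [7, 5, 2] 0 1,
    .cons [7, 6, 0] 0 1,
    .cons [7, 6, 1] 0 1,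
    .cons [7, 6, 2] 0 1,
    .cons [8, 1, 0] 0 1,
    .cons [8, 2, 1] 0 1,
    .cons [0, 0, 0] 0 1,
    .cons [1, 1, 0] 0 1,
    .cons [1, 0, 0] 0 1,
    .cons [2, 2, 0] 0 1,
    .cons [2, 0, 0] 0 1,
    .cons [2, 2, 1] 0 1,
    .cons [3, 3, 0] 0 1,
    .cons [3, 3, 1] 0 1,
    .cons [3, 2, 2] 0 1,
    .fus [0, 1, 2, 3, 4, 5, 6, 7] [0, 0] [],
    .fus [0, 1, 2, 3, 4, 5, 6, 7] [2, 2] [],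
    .fus [0, 1, 2, 3, 4, 5, 6, 7] [3, 0] [0, 3],
    .fus [0, 1, 2, 3, 4, 5, 6, 7] [3, 2] [2, 3],
    .fus [0, 1, 2, 3, 4, 5, 6, 7] [4, 2] [2, 4],
    .fus [0, 1, 2, 3, 4, 5, 6, 7] [5, 3] [3, 5],
    .fus [0, 1, 2, 3, 4, 5, 6, 7] [6, 2] [2, 6],
    .fus [8, 9, 10, 11, 12] [0, 0] [],
    .fus [8, 9, 10, 11, 12] [2, 0] [0, 2],
    .fus [8, 9, 10, 11, 12] [3, 0, 3] [0, 4, 4],
    .fus [8, 9, 10, 11, 12] [3, 0, 4] [0, 4, 3],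
    .fus [13, 14, 15, 16, 17, 18] [0, 0] [],
    .fus [13, 14, 15, 16, 17, 18] [1, 1] []]
  free := 78
  combo := [[],
    [1, 6, 10, 11, 12, 14, 16, 18, 23, 24, 26, 27, 28, 29, 30, 32, 34, 35, 36, 37, 41, 42, 51, 52, 53, 55, 58, 59, 62, 63, 66, 67],
    [0, 6, 7, 11, 15, 17, 18, 20, 21, 22, 25, 28, 32, 33, 34, 35, 37, 38, 39, 40, 41, 42, 43, 44, 45, 49, 50, 51, 52, 56, 57, 62, 63, 64, 67],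
    [],
    [4, 5, 6, 7, 13, 15, 16, 17, 21, 22, 24, 25, 26, 27, 30, 31, 32, 33, 34, 36, 37, 41, 44, 45, 48, 49, 50, 52, 56, 59, 60, 61, 63, 65],
    [1, 3, 4, 8, 9, 11, 12, 13, 14, 15, 16, 20, 21, 25, 27, 28, 29, 30, 32, 33, 35, 39, 41, 42, 43, 47, 48, 49, 50, 52, 53, 56, 57, 62, 63, 64],
    [0, 1, 5, 6, 8, 12, 13, 14, 15, 16, 17, 24, 26, 30, 31, 32, 38, 39, 40, 46, 48, 50, 52, 53, 54, 56, 57, 58, 61, 62, 63, 64, 66],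
    [0, 1, 7, 10, 13, 19, 20, 21, 22, 23, 24, 25, 26, 27, 28, 30, 33, 36, 37, 39, 41, 44, 45, 47, 48, 49, 50, 52, 55, 58, 62, 63, 64, 67],
    [0, 1, 2, 4, 5, 6, 7, 8, 9, 11, 13, 16, 17, 20, 21, 22, 28, 29, 31, 33, 37, 39, 42, 43, 44, 47, 52, 53, 56, 57, 58, 60, 63],
    [],
    [46],
    [],
    [],
    [1, 8, 9, 11, 13, 16, 17, 22, 23, 25, 27, 30, 32, 34, 35, 38, 39, 42, 43, 44, 47, 48, 61],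
    [1, 4, 6, 7, 11, 19, 21, 26, 28, 29, 30, 34, 35, 40, 48, 51, 56, 57, 58, 59],
    [1, 8, 10, 13, 16, 35, 36, 40, 47, 53],
    [],
    [],
    [47, 53],
    [0, 3, 4, 7, 15, 22, 23, 25, 30, 31, 36, 37, 38, 40, 43, 57, 58, 59, 60],
    [47],
    [0, 1, 2, 4, 5, 7, 10, 14, 15, 16, 17, 23, 25, 27, 31, 32, 36, 37, 38, 42, 43, 45, 47, 52, 53, 56, 57],
    [0, 1, 6, 8, 9, 11, 12, 13, 14, 18, 24, 26, 29, 30, 31, 36, 37, 39, 42, 43, 44, 51, 52, 56, 60, 61],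
    [0, 1, 2, 4, 5, 6, 7, 10, 11, 12, 15, 16, 17, 19, 20, 25, 26, 27, 30, 32, 34, 35, 36, 38, 40, 42, 43, 45, 47, 50, 51, 52, 53, 54, 56, 57],
    [1, 3, 10, 11, 14, 15, 16, 17, 18, 19, 25, 31, 33, 34, 36, 37, 38, 41, 43, 44, 52, 56, 58, 59, 61],
    [],
    [0, 3, 4, 7, 9, 11, 12, 14, 15, 16, 18, 21, 23, 24, 25, 28, 30, 32, 36, 37, 40, 41, 42, 58, 60],
    [0, 1, 2, 4, 5, 6, 7, 10, 11, 12, 15, 16, 17, 19, 20, 25, 26, 27, 30, 32, 34, 35, 36, 38, 40, 42, 43, 45, 47, 49, 50, 51, 52, 53, 54, 56, 57],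
    [0, 3, 7, 15, 16, 22, 23, 25, 30, 31, 36, 37, 38, 40, 43, 57, 58, 59, 60],
    [10, 16],
    [],
    [0, 1, 3, 4, 7, 8, 9, 11, 12, 14, 15, 17, 18, 19, 21, 22, 23, 25, 26, 27, 29, 30, 31, 36, 40, 44, 51, 52, 56, 57, 58, 59, 61],
    [15],
    [16],
    [0, 3, 4, 6, 7, 8, 10, 11, 12, 13, 14, 16, 18, 19, 22, 23, 34, 37, 40, 41, 44, 47, 53, 57, 59, 60, 61],
    [1, 8, 10, 13, 16, 35, 36, 40, 48, 53],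
    [5, 27],
    [0, 1, 3, 10, 11, 16, 17, 18, 23, 24, 27, 29, 30, 34, 38, 39, 42, 43, 44, 47, 51, 52, 53, 56, 57, 59],
    [20, 27],
    [0, 3, 6, 9, 11, 12, 14, 15, 16, 19, 21, 22, 23, 24, 25, 28, 31, 36, 37, 38, 42, 43, 44, 47, 53, 57, 59, 60, 61],
    [25],
    [0, 3, 6, 8, 9, 10, 13, 15, 19, 21, 24, 26, 28, 30, 31, 33, 34, 35, 40, 43, 47, 53, 57, 59, 60, 61],
    [27],
    [0, 1, 3, 6, 8, 11, 12, 13, 14, 15, 21, 26, 28, 29, 30, 33, 35, 37, 40, 42, 44, 47, 51, 52, 53, 56, 57, 59],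
    [6, 11, 12, 14, 19, 20, 23, 26, 30, 31, 34, 35, 37, 40, 49, 51, 54],
    [1, 6, 8, 12, 13, 14, 16, 17, 22, 24, 25, 26, 27, 28, 29, 30, 31, 32, 34, 37, 38, 39, 47, 51, 52, 53, 56, 57, 58, 59, 60],
    [1, 8, 9, 11, 13, 14, 15, 17, 19, 21, 26, 27, 29, 30, 37, 38, 39, 40, 42, 43, 44, 51, 52, 56, 60, 61],
    [4, 7, 8, 9, 10, 11, 12, 13, 14, 16, 18, 21, 22, 23, 26, 27, 28, 29, 30, 31, 33, 35, 37, 40, 42, 43, 44, 45],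
    [1, 4, 6, 7, 10, 11, 14, 18, 21, 22, 23, 25, 26, 31, 32, 33, 34, 35, 38, 40, 42, 43, 47, 51, 52, 53, 56, 57, 58, 59, 60],
    [4, 7, 17, 18, 21, 24, 27, 29, 31, 34, 36, 38],
    [4, 6, 7, 9, 12, 14, 15, 16, 18, 19, 21, 22, 23, 24, 28, 29, 30, 33, 35, 37, 39, 40, 41],
    [0, 3, 4, 7, 8, 10, 12, 13, 14, 17, 21, 22, 23, 24, 27, 30, 31, 34, 37, 38, 41, 42, 44, 47, 53, 57, 59, 60, 61],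
    [1, 4, 6, 7, 8, 11, 13, 16, 17, 18, 22, 23, 24, 26, 27, 28, 33, 35, 38, 40, 41, 42, 43, 44, 51, 52, 56, 60, 61],
    [0, 3, 8, 10, 12, 13, 14, 17, 18, 22, 23, 30, 31, 34, 36, 37, 42, 43, 44, 47, 53, 57, 59, 60, 61],
    [0, 3, 6, 8, 10, 11, 13, 16, 17, 21, 23, 26, 28, 31, 33, 34, 36, 38, 40, 42, 43, 51],
    [],
    [1, 8, 9, 11, 12, 13, 14, 15, 17, 19, 21, 26, 27, 29, 35, 37, 38, 39, 40, 43, 44, 51, 52, 56, 60, 61],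
    [6, 11, 15, 16, 19, 21, 24, 26, 27, 30, 36, 41, 42, 44, 45],
    [0, 3, 4, 6, 7, 8, 9, 10, 12, 13, 14, 16, 17, 18, 19, 21, 23, 24, 28, 30, 33, 42, 44, 47, 53, 57, 59, 60, 61],
    [0, 1, 3, 4, 6, 7, 10, 11, 12, 14, 15, 17, 24, 27, 28, 29, 30, 31, 33, 34, 35, 37, 38, 40, 47, 51, 52, 53, 56, 57, 59],
    [1, 8, 9, 11, 12, 13, 14, 16, 17, 19, 21, 26, 27, 29, 36, 37, 38, 43, 44, 51, 52, 56, 60, 61],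
    [0, 3, 6, 9, 15, 17, 18, 19, 27, 28, 29, 30, 33, 34, 35, 36, 38, 40, 42, 43, 44, 47, 53, 57, 59, 60, 61],
    [15, 16, 36, 39],
    [4, 7, 8, 10, 13, 17, 21, 24, 26, 27, 31, 34, 42, 44],
    [4, 6, 7, 9, 12, 14, 18, 19, 21, 22, 23, 24, 28, 29, 33, 35, 36, 37, 41, 42],
    [0, 3, 6, 11, 15, 16, 17, 23, 26, 28, 33, 34, 36, 38],
    [0, 1, 3, 4, 6, 7, 8, 9, 13, 16, 18, 22, 23, 24, 31, 40, 41, 42, 43, 47, 51, 52, 53, 56, 57, 59],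
    [1, 9, 10, 11, 12, 14, 17, 19, 21, 26, 27, 29, 37, 38, 39, 43, 44, 51, 52, 56, 60, 61],
    [0, 3, 4, 6, 7, 8, 10, 11, 12, 13, 14, 16, 18, 19, 22, 23, 37, 40, 41, 43, 44, 47, 53, 57, 59, 60, 61],
    [1, 9, 10, 11, 12, 14, 16, 17, 18, 19, 21, 26, 27, 29, 30, 32, 37, 38, 39, 43, 44, 51, 52, 56, 60, 61],
    [33],
    [16, 18],
    [4, 6, 7, 8, 9, 10, 12, 13, 14, 15, 18, 19, 21, 22, 23, 24, 26, 29, 35, 36, 37, 39, 40, 41],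
    [39],
    [4, 7, 9, 11, 12, 14, 15, 16, 18, 21, 22, 23, 24, 26, 28, 29, 30, 31, 33, 35, 37, 43, 44],
    [6, 11, 16, 17, 18, 19, 21, 24, 27, 30, 34, 38, 40, 42, 43],
    [4, 7, 8, 9, 10, 11, 12, 13, 14, 15, 16, 17, 22, 23, 27, 28, 29, 30, 33, 34, 35, 36, 37, 38, 41, 42, 43],
    [6, 11, 12, 14, 19, 21, 23, 24, 27, 28, 30, 31, 33, 34, 35, 37, 39, 40]]

/-- The certificate. -/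
def tab2 : TableCert where
  P := pc2
  ews := [[0, 3, 1, 0, 2, 3, 1, 0, 3, 0, 2, 3, 0, 3, 1, 2, 3, 1],
    [1, 3, 1, 2, 1, 0, 3, 1, 2, 1, 0, 3, 0, 2, 3, 2, 0, 1],
    [0, 3, 0, 3, 1, 2, 0, 3, 0, 3, 0, 2, 1, 3, 0, 1, 3, 0],
    [1, 0, 2, 3, 0, 3, 1, 0, 2, 3, 0, 1, 3, 0, 2, 3, 1],
    [0, 3, 2, 1, 0, 3, 2, 0, 1, 3, 2, 1, 0, 3, 2, 0, 3, 2, 1, 3, 0, 2, 3, 2, 1, 0],
    [2, 3, 1, 0, 1, 0, 1, 3, 2],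
    [0, 3, 2, 3, 0, 3, 1, 2, 0, 3, 0, 3, 0, 2, 1, 3, 0, 1, 3, 2, 3, 0],
    [2, 3, 2, 3, 1, 0, 3, 2, 0, 3, 0, 1, 2, 1, 3, 1, 0, 2, 0, 1, 0, 3, 1],
    [0, 3, 2, 0, 3, 1, 2, 3, 0, 1, 3, 1, 0, 3, 2, 3, 0, 2, 3, 0],
    [1, 3, 0, 3, 2, 3, 0, 3, 1, 0, 3, 1, 2, 3, 0],
    [3, 0, 3, 1, 0, 3, 1, 2, 0, 2, 3, 2, 3, 2, 1, 0, 3, 2, 0, 3, 0],
    [0, 3, 2, 3, 1, 2, 3, 0, 1, 3, 0, 3, 2, 3, 0, 3, 1, 0, 2, 3, 0]]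
  gws := [[2, 3, 1, 2, 0, 3, 0, 2, 3, 0, 3, 2, 1, 0, 3, 1, 0, 1, 3, 0, 2, 3, 0],
    [0, 3, 0, 3, 2, 1, 3, 2, 0, 3, 0, 1, 3, 2, 1, 2, 1, 0],
    [1, 2, 0, 3, 2, 1, 0, 2, 3, 1, 0, 3, 2, 1, 3, 1, 0]]
  C := conj2
  K := cert2
  els := els2

theorem tab2_rel : tab2.chkRel actA [1, 2, 4, 8, 16, 32, 64, 128] = true := by decide +kernel

theorem tab2_card : tab2.chkCard actA [1, 2, 4, 8, 16, 32, 64, 128] = true := by decide +kernel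

theorem tab2_tails : tab2.K.checkPair tab2.P tab2.C (tri 5 1) (tri 6 4) = true := by decide +kernel

theorem sylow2 : Nonempty (SylowPair G0 2) :=
  TableCert.sylowPair homA (by decide +kernel) det card_G0 rfl (by decide) tab2_rel tab2_card
    (j := 5) (i := 1) (j' := 6) (i' := 4) tab2_tails (by decide +kernel) rfl rfl (by decide +kernel)
    rfl rfl (by decide +kernel)

end Cfsg.Agent.Classical.OmegaEightTwo
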