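import Cfsg.Agent.Lib.Grp.SchurM.TailTable
import Cfsg.Agent.Lib.Classical.OmegaEightTwo.Two

/-! A Sylow 3-subgroup of the orthogonal group with equations for the tails. -/

set_option autoImplicit false
set_option maxRecDepth 100000
set_option maxHeartbeats 8000000

open Cfsg.Agent.Grp.SchurM.Tails

namespace Cfsg.Agent.Classical.OmegaEightTwo

/-- Presentation of the Sylow 3-subgroup. -/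
def pc3 : PC where
  p := 3
  n := 5
  rhs := [[],
    [0, 1],
    [],
    [0, 2, 3],
    [1, 2],
    [4],
    [0, 3],
    [1, 3],
    [2, 3, 4],
    [],
    [0, 4],
    [1, 4],
    [2, 4],
    [3, 4],
    []]
  defs := [(3, 2, 0), (4, 3, 2)]

/-- Elements of the Sylow 3-subgroup. -/
def els3 : List (List ℕ) :=
   [[0, 1, 2, 2, 3, 3],
    [2, 3],
    [0, 0, 1, 1, 3, 4],
    [0, 0, 1, 1, 3, 3, 4, 4],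
    [2, 3, 3, 4, 4],
    [0, 1, 2, 2],
    [2, 4, 4],
    [0, 0, 1, 1, 4],
    [0, 1, 2, 2, 3, 4],
    [0, 2, 4, 4],
    [1, 1, 4],
    [0, 0, 1, 2, 2, 3, 4],
    [0, 1, 2],
    [4, 4],
    [0, 0, 1, 1, 2, 2, 3, 4, 4],
    [2, 2, 3, 3, 4],
    [0, 1, 3, 4, 4],
    [0, 0, 1, 1, 2, 3, 4],
    [0, 1, 3, 3],
    [2, 2, 4],
    [0, 0, 1, 1, 2, 3, 3],
    [1],
    [0, 0, 2, 2, 3],
    [0, 1, 1, 2, 4],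
    [0, 0, 1, 1, 2, 4],
    [0, 1],
    [2, 2, 3],
    [2, 3, 3],
    [0, 1, 2, 2, 4],
    [0, 0, 1, 1, 3, 3],
    [1, 2, 2, 3, 3],
    [0, 0, 2, 3],
    [0, 1, 1, 3, 4],
    [0, 0, 1, 2, 3, 4, 4],
    [1, 1, 2, 2, 3, 3, 4, 4],
    [0, 3],
    [0, 0, 2, 2],
    [0, 1, 1, 2, 3, 3, 4, 4],
    [1, 3, 3, 4, 4],
    [0, 0, 2, 2, 3, 3, 4],
    [1, 3, 4, 4],
    [0, 1, 1, 2, 3, 4],
    [0, 1, 2, 3, 3, 4],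
    [0, 0, 1, 1, 2, 2, 4, 4],
    [3, 3, 4],
    [0, 1, 2, 3, 4, 4],
    [3],
    [0, 0, 1, 1, 2, 2, 3, 3, 4, 4],
    [2, 2, 3, 4],
    [0, 1, 4],
    [0, 0, 1, 1, 2, 4, 4],
    [2, 4],
    [0, 1, 2, 2, 3],
    [0, 0, 1, 1],
    [1, 2, 3, 4, 4],
    [0, 1, 1, 2, 2, 3, 3, 4, 4],
    [0, 0, 3],
    [0, 0, 1, 1, 2, 3, 3, 4, 4],
    [2, 2],
    [0, 1, 3, 3, 4, 4],
    [0, 0, 1, 3, 4, 4],
    [0, 2, 2, 3, 3, 4],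
    [1, 1, 2, 3, 4],
    [0, 2, 3, 3],
    [0, 0, 1, 2, 2, 4],
    [1, 1, 3, 3],
    [0, 2, 3],
    [1, 1, 3, 4],
    [0, 0, 1, 2, 2, 3, 3],
    [1, 1, 2, 3],
    [0, 2, 2, 3, 3],
    [0, 0, 1, 3, 4],
    [0, 2, 2],
    [1, 1, 2, 3, 3, 4, 4],
    [0, 0, 1, 3, 3, 4, 4],
    [0, 0, 1, 4],
    [0, 2, 2, 3, 4],
    [1, 1, 2, 4, 4],
    [0, 0, 2, 2, 3, 4],
    [1, 4],
    [0, 1, 1, 2, 4, 4],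
    [0, 0, 2, 3, 4],
    [1, 2, 2, 3, 3, 4],
    [0, 1, 1, 3, 4, 4],
    [0, 0, 2, 3, 3],
    [1, 2, 2, 4],
    [0, 1, 1, 3, 3],
    [0, 2, 4],
    [1, 1],
    [0, 0, 1, 2, 2, 3],
    [1, 2, 2, 3],
    [0, 0, 2, 4],
    [0, 1, 1],
    [0, 2, 2, 4],
    [0, 0, 1, 3, 3],
    [1, 1, 2, 3, 3],
    [2, 2, 3, 3],
    [0, 1, 3, 4],
    [0, 0, 1, 1, 2, 3],
    [1, 2, 3, 3, 4],
    [0, 1, 1, 2, 2, 4, 4],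
    [0, 0, 3, 3, 4],
    [0, 0, 1, 2, 2],
    [0, 2, 3, 3, 4, 4],
    [1, 1, 3, 3, 4, 4],
    [0, 2, 3, 4],
    [0, 0, 1, 2, 2, 3, 3, 4],
    [1, 1, 3, 4, 4],
    [0, 0, 2, 4, 4],
    [0, 1, 1, 4],
    [1, 2, 2, 3, 4],
    [0, 0, 1],
    [1, 1, 2, 4],
    [0, 2, 2, 3],
    [1, 2],
    [0, 0, 4, 4],
    [0, 1, 1, 2, 2, 3, 4, 4],
    [0, 0, 1, 2],
    [1, 1, 2, 2, 3, 4, 4],
    [0, 4, 4],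
    [0, 1, 1, 3, 3, 4, 4],
    [1, 2, 2],
    [0, 0, 2, 3, 3, 4, 4],
    [2, 3, 4],
    [0, 0, 1, 1, 3, 4, 4],
    [0, 1, 2, 2, 3, 3, 4],
    [1, 3, 3],
    [0, 0, 2, 2, 4],
    [0, 1, 1, 2, 3, 3],
    [1, 3, 4],
    [0, 0, 2, 2, 3, 3],
    [0, 1, 1, 2, 3],
    [0, 0, 1, 2, 3, 3, 4],
    [0, 3, 3, 4],
    [1, 1, 2, 2, 4, 4],
    [],
    [0, 0, 1, 1, 2, 2, 3],
    [0, 1, 2, 4],
    [1, 1, 2, 2, 3],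
    [0, 0, 1, 2, 4],
    [0],
    [1, 1, 2, 2, 3, 3, 4],
    [0, 3, 4, 4],
    [0, 0, 1, 2, 3, 4],
    [1, 1, 2, 2, 4],
    [0, 3, 3],
    [0, 0, 1, 2, 3, 3],
    [0, 1, 1, 2],
    [0, 0, 2, 2, 3, 4, 4],
    [1, 4, 4],
    [0, 0, 1, 1, 2, 2, 3, 3, 4],
    [3, 4, 4],
    [0, 1, 2, 3, 4],
    [0, 0, 1, 1, 2, 2],
    [0, 1, 2, 3, 3, 4, 4],
    [3, 3, 4, 4],
    [0, 0, 1, 1, 2, 3, 4, 4],
    [2, 2, 3, 3, 4, 4],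
    [0, 1, 3],
    [0, 1, 2, 2, 4, 4],
    [0, 0, 1, 1, 3, 3, 4],
    [2, 3, 3, 4],
    [0, 0, 1, 1, 4, 4],
    [0, 1, 2, 2, 3, 4, 4],
    [2],
    [1, 2, 2, 3, 4, 4],
    [0, 1, 1, 4, 4],
    [0, 0, 2],
    [0, 4],
    [1, 1, 2, 2, 3, 4],
    [0, 0, 1, 2, 4, 4],
    [0, 1, 1, 2, 3, 3, 4],
    [1, 3, 3, 4],
    [0, 0, 2, 2, 4, 4],
    [0, 1, 1, 2, 3, 4, 4],
    [1, 3],
    [0, 0, 2, 2, 3, 3, 4, 4],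
    [0, 1, 1, 3, 3, 4],
    [1, 2, 2, 4, 4],
    [0, 0, 2, 3, 3, 4],
    [0, 0, 3, 4, 4],
    [0, 1, 1, 2, 2, 3, 3, 4],
    [1, 2, 3, 4],
    [0, 3, 3, 4, 4],
    [0, 0, 1, 2, 3, 3, 4, 4],
    [1, 1, 2, 2],
    [1, 1, 2, 3, 4, 4],
    [0, 2, 2, 3, 3, 4, 4],
    [0, 0, 1, 3],
    [1, 1, 4, 4],
    [0, 0, 1, 2, 2, 3, 4, 4],
    [0, 2],
    [0, 0, 4],
    [0, 1, 1, 2, 2, 3, 4],
    [1, 2, 4, 4],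
    [4],
    [0, 0, 1, 1, 2, 2, 3, 4],
    [0, 1, 2, 4, 4],
    [1, 2, 3],
    [0, 1, 1, 2, 2, 3, 3],
    [0, 0, 3, 4],
    [1, 2, 3, 3, 4, 4],
    [0, 0, 3, 3, 4, 4],
    [0, 1, 1, 2, 2],
    [1, 2, 2, 3, 3, 4, 4],
    [0, 1, 1, 3],
    [0, 0, 2, 3, 4, 4],
    [1, 1, 2, 3, 3, 4],
    [0, 0, 1, 3, 3, 4],
    [0, 2, 2, 4, 4],
    [1, 1, 2, 2, 3, 3],
    [0, 3, 4],
    [0, 0, 1, 2, 3],
    [0, 1, 1, 2, 2, 4],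
    [0, 0, 3, 3],
    [1, 2, 3, 3],
    [1, 1, 2],
    [0, 2, 2, 3, 4, 4],
    [0, 0, 1, 4, 4],
    [0, 0, 1, 1, 2],
    [2, 2, 3, 4, 4],
    [0, 1, 4, 4],
    [1, 2, 4],
    [0, 1, 1, 2, 2, 3],
    [0, 0],
    [0, 0, 1, 2, 2, 4, 4],
    [1, 1, 3, 3, 4],
    [0, 2, 3, 3, 4],
    [1, 1, 3],
    [0, 0, 1, 2, 2, 3, 3, 4, 4],
    [0, 2, 3, 4, 4],
    [0, 0, 1, 1, 2, 3, 3, 4],
    [0, 1, 3, 3, 4],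
    [2, 2, 4, 4],
    [0, 1, 2, 3],
    [3, 4],
    [0, 0, 1, 1, 2, 2, 3, 3],
    [0, 0, 1, 1, 2, 2, 4],
    [3, 3],
    [0, 1, 2, 3, 3],
    [0, 1, 2, 2, 3, 3, 4, 4],
    [0, 0, 1, 1, 3],
    [2, 3, 4, 4]]

/-- Conjugation data. -/
def conj3 : List Conj :=
   [(0, [0, 0, 1, 1, 2, 2, 3, 3, 4, 4], [3, 3, 4]),
    (0, [1, 3], [0, 2, 3]),
    (0, [0, 2, 3, 3], [1, 3]),
    (1, [0, 1, 2, 3, 3, 4, 4], [0, 0, 1, 1, 2, 2]),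
    (1, [1, 2, 2, 3, 3, 4], [0, 0, 2, 4]),
    (1, [0, 2, 3, 3, 4], [0, 0, 1, 2, 2, 4, 4]),
    (2, [0, 0, 2, 2, 3, 3], [0, 2, 3, 4, 4]),
    (2, [0, 1, 2, 2, 3, 3, 4, 4], [0, 0, 1, 1, 2, 4, 4]),
    (2, [0, 3], [0, 0, 3, 3]),
    (3, [0, 3], [4, 4]),
    (3, [0, 1, 1], [0, 0, 2, 2, 3, 4]),
    (3, [0, 0], [0, 1, 2])]

/-- Equations between tails. -/
def cert3 : Cert where
  eqns := [.cons [2, 1, 0] 0 1,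
    .cons [3, 2, 0] 0 1,
    .cons [3, 2, 1] 0 1,
    .cons [4, 2, 0] 0 1,
    .cons [2, 2, 2, 0] 0 2,
    .cons [2, 0, 0, 0] 0 1,
    .cons [2, 2, 2, 2] 0 1,
    .fus [0, 1, 2] [2, 0] [0, 2],
    .fus [0, 1, 2] [0, 0, 0] [],
    .fus [0, 1, 2] [1, 1, 1] [],
    .fus [3, 4, 5] [1, 0, 0, 1] [0, 1, 1, 0],
    .fus [6, 7, 8] [2, 2, 2] [],
    .fus [9, 10, 11] [1, 0] [0, 1]]
  free := 15
  combo := [[5, 5, 11, 11],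
    [1, 1, 3, 3, 6, 10, 10, 12, 12],
    [0, 0, 1, 2, 2, 3, 3, 4, 4, 5, 5, 6, 6, 8, 9, 9],
    [],
    [0, 0, 2, 3, 6, 6, 7, 7, 10, 10, 12, 12],
    [1, 2, 2, 3, 3, 4, 5, 6, 8, 9, 10, 10, 11],
    [0, 0, 1, 1, 3, 10],
    [0, 0],
    [],
    [5],
    [1, 3, 3],
    [2],
    [6],
    [3, 3],
    [1, 3, 4, 4, 5, 5, 6, 6]]

/-- The certificate. -/
def tab3 : TableCert where
  P := pc3
  ews := [[3, 1, 2, 1, 3, 2, 1, 0, 3, 0, 1, 3, 2, 3, 0, 3, 1, 0, 2, 3, 2, 3],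
    [0, 1, 2, 0, 1, 2, 0, 3, 0, 3, 2, 3, 0, 3, 0, 1],
    [3, 2, 1, 0, 2, 3, 2, 0, 1, 3, 0, 2, 3, 1, 2, 3, 0, 3, 2, 3],
    [3, 0, 1, 3, 2, 1, 2, 0, 2, 3, 1, 2, 0, 3, 0, 1, 0],
    [0, 1, 3, 0, 3, 1, 2, 3, 0, 2, 3, 2, 0, 1, 2, 3, 2, 0, 3, 0]]
  gws := [[1, 3, 1, 0, 3, 0, 2, 1, 3, 2, 0, 3, 1, 0, 2, 3, 0, 2],
    [3, 0, 1, 0, 2, 1, 3, 0, 2, 3, 0, 1, 0, 2, 0, 3, 2, 1, 3, 2],
    [3, 2, 0, 1, 3, 2, 1, 0, 3, 2, 1, 3, 0, 1, 3, 1, 2, 0, 3],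
    [2, 0, 1, 3, 0, 1, 3, 2, 0, 3, 1, 2, 0, 3, 0, 3, 2, 3, 1, 0, 2]]
  C := conj3
  K := cert3
  els := els3

theorem tab3_rel : tab3.chkRel actA [1, 2, 4, 8, 16, 32, 64, 128] = true := by decide +kernel

theorem tab3_card : tab3.chkCard actA [1, 2, 4, 8, 16, 32, 64, 128] = true := by decide +kernel

theorem tab3_tails : tab3.K.check tab3.P tab3.C = true := by decide +kernel

theorem sylow3 : Nonempty (SylowCert G0 3) :=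
  TableCert.sylowCert homA (by decide +kernel) det card_G0 rfl (by decide) tab3_rel tab3_card tab3_tails
    (le_of_eq rfl) (by decide +kernel)

end Cfsg.Agent.Classical.OmegaEightTwo
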