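import Cfsg.Agent.Lib.Classical.OmegaEightTwo.Tail2
import Cfsg.Agent.Lib.Classical.OmegaEightTwo.Tail3
import Cfsg.Agent.Lib.Classical.OmegaEightTwo.Tail5
import Cfsg.Agent.Lib.Classical.OmegaEightTwo.Tail7
import Cfsg.Agent.Lib.Classical.OmegaEightTwo.Points
import Cfsg.Agent.Lib.Classical.OmegaEightTwo.Sign
import Cfsg.Agent.Lib.Classical.IsometryTransport
import Cfsg.Agent.Lib.Spor.Cos.Sift
import Cfsg.Agent.Lib.Grp.SchurM.StemPair
import Cfsg.Agent.Lib.Grp.SchurM.SylowBounds

/-! The multiplier of the eight-dimensional orthogonal group of plus type over two elements is a four-group. -/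

set_option autoImplicit false
set_option maxRecDepth 100000
set_option linter.style.haveILetI false

open Cfsg Cfsg.Agent.Spor.Cos Cfsg.Agent.Grp.SchurM Cfsg.Agent.Grp.SchurM.Tails
open Cfsg.Agent.Classical Cfsg.Agent.Classical.OrthAut

namespace Cfsg.Agent.Classical.OmegaEightTwo

universe u

/-- The four-group, written multiplicatively. -/
abbrev K4 : Type := Multiplicative (ZMod 2 × ZMod 2)

instance finite_G0 : Finite G0 := Nat.finite_of_card_ne_zero (by rw [card_G0]; norm_num)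

theorem exists_hom {Δ : Type u} [Group Δ] [Finite Δ] (σ : Δ →* G0) (hσ : Cfsg.IsStemExtension σ) :
    ∃ π : K4 →* σ.ker, Function.Surjective π := by
  obtain ⟨S⟩ := sylow2
  obtain ⟨c, hc, d, hd, hcp, hdp, hle⟩ := exists_gens_of_pair Nat.prime_two S (fun q hq hne hdv => by
    rw [card_G0, show 174182400 = 2 ^ 12 * 3 ^ 5 * 5 ^ 2 * 7 by norm_num] at hdv
    have key : ∀ r : ℕ, r.Prime → q ∣ r → q = r := fun r hr h => (Nat.prime_dvd_prime_iff_eq hq hr).1 h
    rcases (Nat.Prime.dvd_mul hq).1 hdv with hdv | h7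
    · rcases (Nat.Prime.dvd_mul hq).1 hdv with hdv | h5
      · rcases (Nat.Prime.dvd_mul hq).1 hdv with h2 | h3
        · exact absurd (key 2 Nat.prime_two (hq.dvd_of_dvd_pow h2)) hne
        · obtain rfl := key 3 Nat.prime_three (hq.dvd_of_dvd_pow h3)
          exact sylow3
      · obtain rfl := key 5 (by norm_num) (hq.dvd_of_dvd_pow h5)
        exact sylow5
    · obtain rfl := key 7 (by norm_num) h7
      exact sylow7) σ hσ
  obtain ⟨f, hf⟩ := Cfsg.Agent.Grp.SchurM.exists_surjective_zmod (Subgroup.zpowers c) c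
    (Subgroup.mem_zpowers c) hcp le_rfl
  obtain ⟨f', hf'⟩ := Cfsg.Agent.Grp.SchurM.exists_surjective_zmod (Subgroup.zpowers d) d
    (Subgroup.mem_zpowers d) hdp le_rfl
  let g : Multiplicative (ZMod 2) →* Δ := (Subgroup.zpowers c).subtype.comp f
  let g' : Multiplicative (ZMod 2) →* Δ := (Subgroup.zpowers d).subtype.comp f'
  have hgk : ∀ a, g a ∈ σ.ker := fun a => Subgroup.zpowers_le.2 hc (f a).2
  have hgk' : ∀ a, g' a ∈ σ.ker := fun a => Subgroup.zpowers_le.2 hd (f' a).2
  have hcom : ∀ a b, Commute (g a) (g' b) := fun a b => (Subgroup.mem_center_iff.1 (hσ.2.1 (hgk' b)) (g a))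
  let F : Multiplicative (ZMod 2) × Multiplicative (ZMod 2) →* Δ := g.noncommCoprod g' hcom
  let T : K4 →* Multiplicative (ZMod 2) × Multiplicative (ZMod 2) := (MulEquiv.prodMultiplicative _ _).toMonoidHom
  refine ⟨(F.comp T).codRestrict σ.ker fun x => ?_, ?_⟩
  · exact mul_mem (hgk _) (hgk' _)
  · have hT : Function.Surjective T := (MulEquiv.prodMultiplicative _ _).surjective
    have hrange : σ.ker ≤ F.range := by
      refine hle.trans (sup_le ?_ ?_) <;> intro x hx
      · obtain ⟨a, ha⟩ := hf ⟨x, hx⟩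
        exact ⟨(a, 1), by simp [F, g, ha]⟩
      · obtain ⟨a, ha⟩ := hf' ⟨x, hx⟩
        exact ⟨(1, a), by simp [F, g', ha]⟩
    rintro ⟨x, hx⟩
    obtain ⟨y, rfl⟩ := hrange hx
    obtain ⟨z, rfl⟩ := hT y
    exact ⟨z, rfl⟩

theorem commH : ev gT (comH.1 ++ comH.2) = ev gT (comH.2 ++ comH.1) :=
  ev_eq_of_agree homA det (by decide +kernel) (by decide +kernel) (by decide +kernel)

theorem commN : ev gT (comN.1 ++ comN.2) = ev gT (comN.2 ++ comN.1) :=
  ev_eq_of_agree homA det (by decide +kernel) (by decide +kernel) (by decide +kernel)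

theorem exists_mulEquiv {F : Type u} [Field F] [Fintype F] (hF : Fintype.card F = 2) :
    Nonempty (G0 ≃* Cfsg.POmega F (Cfsg.quadFormPlus 4 F)) := by
  obtain ⟨e⟩ := IsometryTransport.isometry_iso (ZMod.ringEquivOfPrime F Nat.prime_two hF) (⇑QQ) (Cfsg.quadFormPlus 4 F) (fun v => by
    rw [coe_qfPlus]; simp [Cfsg.quadFormPlus, map_sum])
  have hmap : (Omega (ZMod 2) ⇑QQ).map e.toMonoidHom = Omega F (Cfsg.quadFormPlus 4 F) := by
    show (commutator _).map _ = commutator _
    rw [commutator_def, commutator_def, Subgroup.map_commutator, Subgroup.map_top_of_surjective _ e.surjective]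
  let f : G0 ≃* Omega F (Cfsg.quadFormPlus 4 F) :=
    (e.subgroupMap (Omega (ZMod 2) ⇑QQ)).trans (MulEquiv.subgroupCongr hmap)
  have hbot : Subgroup.center (Omega F (Cfsg.quadFormPlus 4 F)) = ⊥ := by
    rw [eq_bot_iff]
    intro z hz
    have h : f.symm z ∈ Subgroup.center G0 := by
      rw [Subgroup.mem_center_iff]
      intro g
      refine f.injective ?_
      rw [map_mul, map_mul, f.apply_symm_apply]
      exact Subgroup.mem_center_iff.1 hz (f g)
    rw [center_eq_bot, Subgroup.mem_bot] at h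
    rw [Subgroup.mem_bot, ← f.apply_symm_apply z, h, map_one]
  exact ⟨f.trans ((QuotientGroup.quotientBot).symm.trans (QuotientGroup.quotientMulEquivOfEq hbot.symm))⟩

theorem multiplier {F : Type u} [Field F] [Fintype F] (hF : Fintype.card F = 2) :
    Cfsg.HasSchurMultiplier (Cfsg.POmega F (Cfsg.quadFormPlus 4 F)) K4 := by
  obtain ⟨e⟩ := exists_mulEquiv hF
  obtain ⟨π, hπ⟩ := exists_homN
  obtain ⟨π', hπ'⟩ := exists_homH
  obtain ⟨sN, cN⟩ := okN.stem hπ homOne rfl gen shiftN commN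
  obtain ⟨sH, cH⟩ := okH.stem hπ' homOne rfl gen shiftH commH
  have : Finite (Equiv.Perm tabN.Sheet × G0) := okN.finite
  have : Finite (Equiv.Perm tabH.Sheet × G0) := okH.finite
  refine ⟨exists_stem_fibre Nat.prime_two sH sN cH cN
    (SignTab.apart okH okN hπ' homOne rfl hπ homOne rfl rfl commH shiftH flatH)
    (SignTab.apart okN okH hπ homOne rfl hπ' homOne rfl rfl commN shiftN flatN) e, fun Δ _ _ σ hσ => ?_⟩
  let r : Cfsg.POmega F (Cfsg.quadFormPlus 4 F) ≃* G0 := e.symm
  have hker : (r.toMonoidHom.comp σ).ker = σ.ker := MonoidHom.ker_mulEquiv_comp σ r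
  obtain ⟨f, hf⟩ := exists_hom (r.toMonoidHom.comp σ)
    ⟨r.surjective.comp hσ.1, hker.le.trans hσ.2.1, hker.le.trans hσ.2.2⟩
  exact ⟨(MulEquiv.subgroupCongr hker).toMonoidHom.comp f, (MulEquiv.subgroupCongr hker).surjective.comp hf⟩

end Cfsg.Agent.Classical.OmegaEightTwo
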